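import Groth.Agent.Props.K592.AmpleProd
import Groth.Agent.Ega2.AmpleAff
import Groth.Agent.Ega2.TensLift

set_option autoImplicit false
universe u
open CategoryTheory CategoryTheory.Limits AlgebraicGeometry TopologicalSpace

namespace K592.AmpleProd
open Groth.Agent Groth.Agent.Fdesc.LocGen Groth.Agent.Ega2

theorem isAmple_fiber {X Y S : Scheme.{u}} [QuasiSeparatedSpace S] (f : X ⟶ S) (g : Y ⟶ S)
    (L : X.Modules) (N : Y.Modules) (hL : CohB1.IsAmple L) (hN : CohB1.IsAmple N) :
    CohB1.IsAmple (CohB1.tensorMod ((Scheme.Modules.pullback (pullback.fst f g)).obj L)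
      ((Scheme.Modules.pullback (pullback.snd f g)).obj N)) := by
  have : CompactSpace X := hL.2.1
  have : CompactSpace Y := hN.2.1
  have : QuasiCompact g := inferInstance
  have : CompactSpace (pullback f g : Scheme.{u}) :=
    QuasiCompact.compactSpace_of_compactSpace (pullback.fst f g)
  let t := terminal.from S
  let i := pullback.mapDesc f g t
  have h := isAmple_fst_snd (f ≫ t) (g ≫ t) L N hL hN
  have h2 := AmplePull.isAmple_pullback_of_isEmbedding i i.isEmbedding _ h
  let e1 : (Scheme.Modules.pullback i).obj
      ((Scheme.Modules.pullback (pullback.fst (f ≫ t) (g ≫ t))).obj L) ≅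
      (Scheme.Modules.pullback (pullback.fst f g)).obj L :=
    (Scheme.Modules.pullbackComp i _).app L ≪≫
      (Scheme.Modules.pullbackCongr (by simp only [i, pullback.mapDesc, pullback.map]; rw [pullback.lift_fst, Category.comp_id])).app L
  let e2 : (Scheme.Modules.pullback i).obj
      ((Scheme.Modules.pullback (pullback.snd (f ≫ t) (g ≫ t))).obj N) ≅
      (Scheme.Modules.pullback (pullback.snd f g)).obj N :=
    (Scheme.Modules.pullbackComp i _).app N ≪≫
      (Scheme.Modules.pullbackCongr (by simp only [i, pullback.mapDesc, pullback.map]; rw [pullback.lift_snd, Category.comp_id])).app N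
  refine Weight.isAmple_of_iso (Ega3B.PullTensor.pullTensorIso i
    (isInvertible_pullback _ hL.1) (isInvertible_pullback _ hN.1) ≪≫ Ega2.Tens.mapTIso e1 e2) h2

end K592.AmpleProd
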