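import Groth.Agent.CurvesC.NormSections

set_option autoImplicit false
universe u
open CategoryTheory CategoryTheory.Limits AlgebraicGeometry TopologicalSpace

namespace K592.NormComp

open Groth.Agent.CurvesC.NormSections

/-- On a scheme with finitely many irreducible components all of whose local rings are domains,
irreducible components are open. -/
theorem isOpen_of_finite {Y : Scheme.{u}} (hfin : (irreducibleComponents (Y : Type u)).Finite)
    (hY : ∀ y : Y, IsDomain (Y.presheaf.stalk y)) {Z : Set Y}
    (hZ : Z ∈ irreducibleComponents (Y : Type u)) : IsOpen Z := by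
  have hcl : IsClosed (⋃₀ (irreducibleComponents (Y : Type u) \ {Z})) := by
    rw [Set.sUnion_eq_biUnion]
    exact hfin.sdiff.isClosed_biUnion fun W hW => isClosed_of_mem_irreducibleComponents W hW.1
  have : Z = (⋃₀ (irreducibleComponents (Y : Type u) \ {Z}))ᶜ := by
    ext y
    constructor
    · rintro hyZ ⟨W, hW, hyW⟩
      exact hW.2 (eq_of_mem_of_mem (hY y) hW.1 hZ hyW hyZ)
    · intro hy
      by_contra hyZ
      exact hy ⟨irreducibleComponent y, ⟨irreducibleComponent_mem_irreducibleComponents y, fun h =>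
        hyZ (by rw [Set.mem_singleton_iff] at h; rw [← h]; exact mem_irreducibleComponent)⟩,
        mem_irreducibleComponent⟩
  rw [this]
  exact hcl.isOpen_compl

theorem isOpen_of_locally_finite {X : Scheme.{u}}
    (hfin : ∀ U : X.Opens, IsCompact (U : Set X) → (irreducibleComponents ↥U).Finite)
    (hX : ∀ x : X, IsDomain (X.presheaf.stalk x)) {Z : Set X}
    (hZ : Z ∈ irreducibleComponents (X : Type u)) : IsOpen Z := by
  rw [isOpen_iff_forall_mem_open]
  intro z hz
  obtain ⟨U, hU, hzU, -⟩ := exists_isAffineOpen_mem_and_subset (U := ⊤) (x := z) trivial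
  have h1 : U.ι ⁻¹' Z ∈ irreducibleComponents (U.toScheme : Type u) := by
    refine preimage_mem_irreducibleComponents hZ U.ι.isOpenEmbedding ⟨z, hz, ?_⟩
    rw [Scheme.Opens.range_ι]; exact hzU
  have h2 : IsOpen (U.ι ⁻¹' Z) := by
    refine isOpen_of_finite (Y := U.toScheme) (hfin U hU.isCompact) (fun y => ?_) h1
    have := hX (U.ι y)
    exact (U.stalkIso y).commRingCatIsoToRingEquiv.toMulEquiv.isDomain _
  refine ⟨U.ι '' (U.ι ⁻¹' Z), Set.image_preimage_subset _ _,
    U.ι.isOpenEmbedding.isOpenMap _ h2, ?_⟩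
  exact ⟨⟨z, hzU⟩, hz, rfl⟩

end K592.NormComp
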