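import Groth.Agent.Smoothlim.GenFinSch
import Mathlib.AlgebraicGeometry.Morphisms.Separated
import Mathlib.AlgebraicGeometry.ValuativeCriterion
import Mathlib.Topology.KrullDimension

set_option autoImplicit false
universe u
open CategoryTheory CategoryTheory.Limits AlgebraicGeometry TopologicalSpace

namespace K592.DimZero

/-- In a space of Krull dimension at most zero all specializations are trivial. -/
lemma eq_of_specializes {X : Type u} [TopologicalSpace X] [T0Space X]
    (h : topologicalKrullDim X ≤ 0) {x y : X} (hxy : x ⤳ y) : x = y := by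
  by_contra hne
  have hlt : (⟨closure {y}, isIrreducible_singleton.closure, isClosed_closure⟩ : IrreducibleCloseds X)
      < ⟨closure {x}, isIrreducible_singleton.closure, isClosed_closure⟩ := by
    refine lt_of_le_of_ne ?_ ?_
    · exact hxy.closure_subset
    · intro he
      have h1 : closure {y} = closure ({x} : Set X) :=
        congrArg (fun s : IrreducibleCloseds X => (s : Set X)) he
      exact hne (inseparable_iff_closure_eq.2 h1.symm).eq
  have h2 : (1 : WithBot ℕ∞) ≤ Order.krullDim (IrreducibleCloseds X) := by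
    have := Order.LTSeries.length_le_krullDim (α := IrreducibleCloseds X) (RelSeries.fromListIsChain
      [⟨closure {y}, isIrreducible_singleton.closure, isClosed_closure⟩,
       ⟨closure {x}, isIrreducible_singleton.closure, isClosed_closure⟩] (by simp) (by simpa using hlt))
    simpa using this
  have := h2.trans h
  exact absurd this (by decide)

/-- A quasi-separated scheme of dimension at most zero is separated. -/
theorem isSeparated (X : Scheme.{u}) [QuasiSeparatedSpace X]
    (h : topologicalKrullDim X ≤ 0) : X.IsSeparated := by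
  constructor
  have : QuasiSeparated (terminal.from X) := by
    infer_instance
  refine IsSeparated.of_valuativeCriterion _ ?_
  intro S
  refine ⟨?_⟩
  rintro ⟨l₁, hl₁, hl₁'⟩ ⟨l₂, hl₂, hl₂'⟩
  ext : 1
  dsimp at *
  have hη : ∀ (l : Spec (.of S.R) ⟶ X) (p q : Spec (.of S.R)), l p = l q := fun l p q =>
    (eq_of_specializes h ((genericPoint_specializes p).map l.continuous)).symm.trans
    (eq_of_specializes h ((genericPoint_specializes q).map l.continuous))
  have hdom : IsDominant (Spec.map (CommRingCat.ofHom (algebraMap S.R S.K))) := by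
    constructor
    change DenseRange (PrimeSpectrum.comap (algebraMap S.R S.K))
    rw [PrimeSpectrum.denseRange_comap_iff_ker_le_nilRadical]
    rw [(RingHom.injective_iff_ker_eq_bot _).1 (FaithfulSMul.algebraMap_injective S.R S.K)]
    exact bot_le
  let k : Spec (.of S.K) := genericPoint _
  let x : X := S.i₁ k
  have h1 : ∀ p, l₁ p = x := fun p => by
    rw [hη l₁ p ((Spec.map (CommRingCat.ofHom (algebraMap S.R S.K))) k),
      ← Scheme.Hom.comp_apply, hl₁]
  have h2 : ∀ p, l₂ p = x := fun p => by
    rw [hη l₂ p ((Spec.map (CommRingCat.ofHom (algebraMap S.R S.K))) k),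
      ← Scheme.Hom.comp_apply, hl₂]
  obtain ⟨U, hU, hxU, -⟩ := exists_isAffineOpen_mem_and_subset (U := ⊤) (x := x) trivial
  have hr : ∀ l : Spec (.of S.R) ⟶ X, (∀ p, l p = x) → Set.range l ⊆ Set.range U.ι := by
    rintro l hl _ ⟨p, rfl⟩
    rw [hl p, Scheme.Opens.range_ι]
    exact hxU
  have : IsAffine U := hU
  have key : IsOpenImmersion.lift U.ι l₁ (hr l₁ h1) = IsOpenImmersion.lift U.ι l₂ (hr l₂ h2) := by
    refine ext_of_isDominant (Spec.map (CommRingCat.ofHom (algebraMap S.R S.K))) ?_
    rw [← cancel_mono U.ι]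
    simp only [Category.assoc, IsOpenImmersion.lift_fac]
    rw [hl₁, hl₂]
  have := congrArg (· ≫ U.ι) key
  simpa only [IsOpenImmersion.lift_fac] using this

/-- A quasi-separated scheme of dimension at most zero is Hausdorff. -/
theorem t2Space (X : Scheme.{u}) [QuasiSeparatedSpace X]
    (h : topologicalKrullDim X ≤ 0) : T2Space X := by
  refine ⟨fun x y hxy => ?_⟩
  obtain ⟨P, Q, hP, hQ, hxP, hyQ, hPQ⟩ := Groth.Agent.Smoothlim.GenFinSch.exists_separation x y
    (fun z hz => eq_of_specializes h hz) (fun z hz => eq_of_specializes h hz) hxy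
  exact ⟨P, Q, hP, hQ, hxP, hyQ, hPQ⟩

/-- In a Hausdorff scheme, every quasi-compact open is clopen. -/
lemma isClopen_of_isCompact {X : Scheme.{u}} [T2Space X] (U : X.Opens) (hU : IsCompact (U : Set X)) :
    IsClopen (U : Set X) := ⟨hU.isClosed, U.isOpen⟩

theorem totallyDisconnected (X : Scheme.{u}) [T2Space X] : TotallyDisconnectedSpace X := by
  refine ⟨fun S _ hS x hx y hy => ?_⟩
  by_contra hxy
  obtain ⟨U, hU, hxU, hU'⟩ := exists_isAffineOpen_mem_and_subset (x := x)
    (U := ⟨{y}ᶜ, isOpen_compl_singleton⟩) hxy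
  have hcl := isClopen_of_isCompact U hU.isCompact
  have := hS.subset_isClopen hcl ⟨x, hx, hxU⟩
  exact hU' (this hy) rfl

lemma isAffineOpen_inf_of_isClopen {X : Scheme.{u}} (U V : X.Opens) (hU : IsAffineOpen U)
    (hV : IsClopen (V : Set X)) : IsAffineOpen (U ⊓ V) := by
  have : IsClosedImmersion V.ι := IsClosedImmersion.of_isPreimmersion _ (by
    rw [Scheme.Opens.range_ι]; exact hV.isClosed)
  have h1 : IsAffineOpen (V.ι ⁻¹ᵁ U) := hU.preimage V.ι
  have h2 := h1.image_of_isOpenImmersion V.ι
  rwa [Scheme.Hom.image_preimage_eq_opensRange_inf, Scheme.Opens.opensRange_ι, inf_comm] at h2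

lemma sup_eq_sup_inf_compl {X : Type u} [TopologicalSpace X] (W V : Opens X)
    (h : IsOpen ((W : Set X)ᶜ)) : W ⊔ V = W ⊔ (V ⊓ ⟨(W : Set X)ᶜ, h⟩) := by
  ext z
  simp only [Opens.coe_sup, Opens.coe_inf, Opens.coe_mk, Set.mem_union, Set.mem_inter_iff,
    Set.mem_compl_iff]
  tauto

/-- In a Hausdorff scheme, a quasi-compact open is affine. -/
theorem isAffineOpen_of_isCompact (X : Scheme.{u}) [T2Space X] (U : X.Opens)
    (hU : IsCompact (U : Set X)) : IsAffineOpen U := by
  have key : ∀ s : Set X.Opens, s.Finite → (∀ V ∈ s, IsAffineOpen V) → IsAffineOpen (sSup s) := by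
    intro s hs
    induction s, hs using Set.Finite.induction_on with
    | empty =>
      intro _
      rw [sSup_empty]
      exact isAffineOpen_bot X
    | @insert V s _ _ ih =>
      intro hV
      replace ih := ih fun W hW => hV W (Set.mem_insert_of_mem _ hW)
      have h1 : IsClopen ((sSup s : X.Opens) : Set X) :=
        isClopen_of_isCompact _ ih.isCompact
      have h2 : IsAffineOpen (V ⊓ ⟨_, h1.compl.isOpen⟩) :=
        isAffineOpen_inf_of_isClopen _ _ (hV V (Set.mem_insert _ _)) h1.compl
      have h3 := ih.sup_of_disjoint h2 (by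
        rw [← Opens.coe_disjoint]
        exact (disjoint_compl_right (a := ((sSup s : X.Opens) : Set X))).mono_right
          Set.inter_subset_right)
      convert h3
      rw [sSup_insert, sup_comm]
      exact sup_eq_sup_inf_compl _ _ _
  obtain ⟨s, hs, hsf, e⟩ := X.isBasis_affineOpens.exists_finite_of_isCompact hU
  rw [e]
  exact key s hsf hs

end K592.DimZero
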