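import Groth.Prelude.Def_Flat
import Groth.Agent.Props.K592.DimZero
import Groth.Agent.FlatA.FibreDim

set_option autoImplicit false
universe u
open CategoryTheory CategoryTheory.Limits AlgebraicGeometry TopologicalSpace

namespace K592.LocDim

theorem zero_le_localDim {X : Type*} [TopologicalSpace X] (x : X) :
    0 ≤ FlatMor.localDim X x := by
  refine le_iInf fun U => ?_
  have : Nonempty (IrreducibleCloseds (U.1 : Set X)) :=
    ⟨⟨closure {⟨x, U.2⟩}, isIrreducible_singleton.closure, isClosed_closure⟩⟩
  exact Order.krullDim_nonneg

/-- A Noetherian sober space of dimension at most zero is discrete. -/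
lemma discreteTopology_of_dim_le_zero (V : Type u) [TopologicalSpace V] [NoetherianSpace V]
    [QuasiSober V] [T0Space V] (h : topologicalKrullDim V ≤ 0) : Finite V ∧ DiscreteTopology V := by
  have h1 : T1Space V := by
    rw [t1Space_iff_specializes_imp_eq]
    exact fun x y hxy => DimZero.eq_of_specializes h hxy
  have hfin : Finite V := by
    have h2 := NoetherianSpace.finite_irreducibleComponents (α := V)
    have h3 : (Set.univ : Set V) ⊆ ⋃ Z ∈ irreducibleComponents V, Z := by
      intro x _
      exact Set.mem_biUnion (irreducibleComponent_mem_irreducibleComponents x)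
        mem_irreducibleComponent
    have h4 : (⋃ Z ∈ irreducibleComponents V, Z).Finite := by
      refine h2.biUnion fun Z hZ => ?_
      obtain ⟨z, hz⟩ := QuasiSober.sober hZ.1 (isClosed_of_mem_irreducibleComponents Z hZ)
      rw [← hz.def, closure_singleton]
      exact Set.finite_singleton z
    exact Set.finite_univ_iff.1 (h4.subset h3)
  exact ⟨hfin, inferInstance⟩

lemma krullDim_le_zero_of_subsingleton {V : Type*} [TopologicalSpace V] [Subsingleton V] :
    topologicalKrullDim V ≤ 0 := by
  have : Subsingleton (IrreducibleCloseds V) := by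
    refine ⟨fun A B => ?_⟩
    apply IrreducibleCloseds.ext
    have hA := (Set.subsingleton_of_subsingleton (s := (A : Set V)))
    rw [Subsingleton.eq_univ_of_nonempty A.isIrreducible.nonempty,
      Subsingleton.eq_univ_of_nonempty B.isIrreducible.nonempty]
  exact Order.krullDim_nonpos_of_subsingleton

theorem localDim_eq_zero_iff (X : Scheme.{u}) [IsLocallyNoetherian X] (x : X) :
    FlatMor.localDim X x = 0 ↔ IsOpen ({x} : Set X) := by
  constructor
  · intro h
    obtain ⟨U, hxU, hU⟩ := Groth.Agent.FlatA.FibreDim.localDim_le_iff.1 h.le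
    obtain ⟨V, hV, hxV, hVU⟩ := exists_isAffineOpen_mem_and_subset (U := U) (x := x) hxU
    have hdimV : topologicalKrullDim (V : Set X) ≤ 0 :=
      (Topology.IsInducing.topologicalKrullDim_le
        (Topology.IsEmbedding.inclusion hVU).isInducing).trans hU
    have hNV : NoetherianSpace V.toScheme := by
      have := IsLocallyNoetherian.component_noetherian ⟨V, hV⟩
      exact noetherianSpace_of_isAffineOpen V hV
    obtain ⟨-, hdisc⟩ := @discreteTopology_of_dim_le_zero V.toScheme _ hNV inferInstance inferInstance hdimV
    have h1 : IsOpen ({⟨x, hxV⟩} : Set V.toScheme) := isOpen_discrete _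
    have h2 := V.isOpen.isOpenEmbedding_subtypeVal.isOpenMap _ h1
    have h3 : Subtype.val '' ({⟨x, hxV⟩} : Set V) = {x} := Set.image_singleton
    exact h3 ▸ h2
  · intro h
    refine le_antisymm ?_ (zero_le_localDim x)
    rw [Groth.Agent.FlatA.FibreDim.localDim_le_iff]
    refine ⟨⟨{x}, h⟩, rfl, ?_⟩
    exact krullDim_le_zero_of_subsingleton (V := ({x} : Set X))

end K592.LocDim
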