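import Groth.Agent.Fdesc.LocGenAmple
import Groth.Agent.Ega1.AmpFam
import Groth.Agent.Ega3B.PullTensor
import Groth.Agent.Ega2.AmpleAff

set_option autoImplicit false
universe u
open CategoryTheory CategoryTheory.Limits AlgebraicGeometry TopologicalSpace

namespace K592.AmplePull

open Groth.Agent Groth.Agent.Fdesc.LocGen

variable {X Y : Scheme.{u}}

/-- If the loci `X_s` form a basis, so do the affine ones. -/
theorem isBasis_affine (L : X.Modules) (hL : PicF.IsInvertible L)
    (hB : Opens.IsBasis {U : X.Opens | ∃ (n : ℕ)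
      (s : Coh.structureModule X ⟶ CohB1.tensorPow L (n + 1)), U = CohB1.genLocus _ s}) :
    Opens.IsBasis {U : X.Opens | IsAffineOpen U ∧ ∃ (n : ℕ)
      (s : Coh.structureModule X ⟶ CohB1.tensorPow L (n + 1)), U = CohB1.genLocus _ s} := by
  rw [Opens.isBasis_iff_nbhd] at hB ⊢
  intro W x hx
  obtain ⟨V, hV, hxV, hVW⟩ := exists_affine_nhds hx
  obtain ⟨_, ⟨n, s, rfl⟩, hxs, hs⟩ := hB hxV
  refine ⟨_, ⟨?_, n, s, rfl⟩, hxs, hs.trans hVW⟩
  have := isAffineOpen_genLocus_inf (isInvertible_tensorPow hL (n + 1)) s hV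
  rwa [inf_eq_left.mpr hs] at this

lemma genLocus_comp_iso {M N : X.Modules} (s : Coh.structureModule X ⟶ M) (e : M ≅ N) :
    CohB1.genLocus N (s ≫ e.hom) = CohB1.genLocus M s := by
  ext x
  rw [SetLike.mem_coe, SetLike.mem_coe, mem_genLocus_iff, mem_genLocus_iff]
  simp only [sec_comp, isGen_app_iff]

/-- Sections of powers of `f^* L` from sections of powers of `L`. -/
theorem exists_pull_section (f : X ⟶ Y) {L : Y.Modules} (hL : PicF.IsInvertible L) {n : ℕ}
    (s : Coh.structureModule Y ⟶ CohB1.tensorPow L n) :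
    ∃ t : Coh.structureModule X ⟶ CohB1.tensorPow ((Scheme.Modules.pullback f).obj L) n,
      CohB1.genLocus _ t = f ⁻¹ᵁ CohB1.genLocus _ s := by
  obtain ⟨e⟩ := Ega3B.PullTensor.nonempty_pullPowIso f hL n
  exact ⟨pullHom f s ≫ e.hom, by
    rw [genLocus_comp_iso, Ega1.AmpFam.genLocus_pullHom f (isInvertible_tensorPow hL n)]⟩

/-- Pullback of an ample module along a morphism from a quasi-compact scheme which is a
homeomorphism onto its image. -/
theorem isAmple_pullback_of_isEmbedding (i : X ⟶ Y) [CompactSpace X]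
    (hi : Topology.IsEmbedding i) (L : Y.Modules) (hL : CohB1.IsAmple L) :
    CohB1.IsAmple ((Scheme.Modules.pullback i).obj L) := by
  refine isAmple_of_forall_exists (isInvertible_pullback i hL.1) fun x W hxW => ?_
  obtain ⟨W', hW'⟩ := hi.isInducing.isOpen_iff.1 W.isOpen
  have hx : i x ∈ (⟨W', hW'.1⟩ : Y.Opens) := by
    have : x ∈ i ⁻¹' W' := by rw [hW'.2]; exact hxW
    exact this
  obtain ⟨m, t, hxt, ht, -⟩ := IsAmple.exists_genLocus_le hL hx
  obtain ⟨t', ht'⟩ := exists_pull_section i hL.1 t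
  refine ⟨m, t', ?_, ?_⟩
  · rw [ht']; exact hxt
  · rw [ht']
    intro y hy
    have h1 : i y ∈ W' := ht hy
    have h2 : y ∈ i ⁻¹' W' := h1
    rw [hW'.2] at h2
    exact h2

end K592.AmplePull
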