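import Groth.Agent.Ega2.AmpleWeight
import Groth.Agent.Props.K592.AmplePull

set_option autoImplicit false
universe u
open CategoryTheory CategoryTheory.Limits AlgebraicGeometry TopologicalSpace

namespace K592.AmpleProd

open Groth.Agent Groth.Agent.Fdesc.LocGen Groth.Agent.Ega2

/-- A product of sections of `A^p` and `B^q`, as a section of a power of `A ⊗ B`. -/
theorem exists_section {Z : Scheme.{u}} {A B : Z.Modules} (hA : PicF.IsInvertible A)
    (hB : PicF.IsInvertible B) {p q : ℕ} (hp : 0 < p) (hq : 0 < q)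
    {k : ℕ} (hk : p * q = k) (u : Coh.structureModule Z ⟶ CohB1.tensorPow A p)
    (v : Coh.structureModule Z ⟶ CohB1.tensorPow B q) :
    ∃ w : Coh.structureModule Z ⟶ CohB1.tensorPow (CohB1.tensorMod A B) k,
      CohB1.genLocus _ w = CohB1.genLocus _ u ⊓ CohB1.genLocus _ v := by
  subst hk
  have h1 : Weight.Wt A B (p * q) (p * q)
      (CohB1.tensorMod (CohB1.tensorPow (CohB1.tensorPow A p) q)
        (CohB1.tensorPow (CohB1.tensorPow B q) p)) := by
    have := ((Weight.Wt.tensorPow_fst (L := A) (L' := B) p).pow q).tensor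
      ((Weight.Wt.tensorPow_snd (L := A) (L' := B) q).pow p)
    convert this using 1
    · ring
    · ring
  have h2 : Weight.Wt A B (p * q) (p * q) (CohB1.tensorPow (CohB1.tensorMod A B) (p * q)) := by
    have := ((Weight.Wt.fst (L := A) (L' := B)).tensor (Weight.Wt.snd (L := A) (L' := B))).pow
      (p * q)
    simpa using this
  obtain ⟨w, hw⟩ := Weight.exists_section_of_wt hA hB h1 h2
    (Weight.tmulHom (Weight.powHom u q) (Weight.powHom v p))
  refine ⟨w, ?_⟩
  rw [hw, Weight.genLocus_tmulHom (isInvertible_tensorPow (isInvertible_tensorPow hA _) _)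
    (isInvertible_tensorPow (isInvertible_tensorPow hB _) _),
    Weight.genLocus_powHom (isInvertible_tensorPow hA _) _ hq,
    Weight.genLocus_powHom (isInvertible_tensorPow hB _) _ hp]

/-- In a fibre product over an affine scheme the product of affine opens is affine. -/
theorem isAffineOpen_inf {X Y S : Scheme.{u}} [IsAffine S] (f : X ⟶ S) (g : Y ⟶ S) {U : X.Opens}
    (hU : IsAffineOpen U) {V : Y.Opens} (hV : IsAffineOpen V) :
    IsAffineOpen (pullback.fst f g ⁻¹ᵁ U ⊓ pullback.snd f g ⁻¹ᵁ V) := by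
  have H := IsPullback.of_hasPullback f g
  have hS : IsAffineOpen (⊤ : S.Opens) := isAffineOpen_top S
  have : IsAffine U := hU
  have : IsAffine V := hV
  have : IsAffine (⊤ : S.Opens) := hS
  exact .of_isIso (Scheme.Hom.isPullback_resLE H (US := ⊤) (UX := U) (UT := V)
    le_top le_top rfl).isoPullback.hom

/-- Over an affine base, the exterior tensor product of ample modules is ample. -/
theorem isAmple_fst_snd {X Y S : Scheme.{u}} [IsAffine S] (f : X ⟶ S) (g : Y ⟶ S)
    (L : X.Modules) (N : Y.Modules) (hL : CohB1.IsAmple L) (hN : CohB1.IsAmple N) :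
    CohB1.IsAmple (CohB1.tensorMod ((Scheme.Modules.pullback (pullback.fst f g)).obj L)
      ((Scheme.Modules.pullback (pullback.snd f g)).obj N)) := by
  have : CompactSpace X := hL.2.1
  have : CompactSpace Y := hN.2.1
  have : QuasiCompact g := inferInstance
  have : CompactSpace (pullback f g : Scheme.{u}) :=
    QuasiCompact.compactSpace_of_compactSpace (pullback.fst f g)
  have hA := isInvertible_pullback (pullback.fst f g) hL.1
  have hB := isInvertible_pullback (pullback.snd f g) hN.1
  refine ⟨isInvertible_tensorMod hA hB, inferInstance, fun z => ?_⟩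
  obtain ⟨n, s, hs, hs'⟩ := hL.2.2 (pullback.fst f g z)
  obtain ⟨m, t, ht, ht'⟩ := hN.2.2 (pullback.snd f g z)
  obtain ⟨u, hu⟩ := AmplePull.exists_pull_section (pullback.fst f g) hL.1 s
  obtain ⟨v, hv⟩ := AmplePull.exists_pull_section (pullback.snd f g) hN.1 t
  obtain ⟨r, hr⟩ : ∃ r, (n + 1) * (m + 1) = r + 1 := ⟨(n + 1) * (m + 1) - 1, by
    have : 0 < (n + 1) * (m + 1) := by positivity
    omega⟩
  obtain ⟨w, hw⟩ := exists_section hA hB n.succ_pos m.succ_pos hr u v
  have hw' : CohB1.genLocus _ w = pullback.fst f g ⁻¹ᵁ CohB1.genLocus _ s ⊓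
      pullback.snd f g ⁻¹ᵁ CohB1.genLocus _ t := by rw [hw, hu, hv]
  refine ⟨r, w, ?_, ?_⟩
  · rw [hw']
    exact ⟨hs, ht⟩
  · rw [hw']
    exact isAffineOpen_inf f g hs' ht'

end K592.AmpleProd
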