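import Groth.Prelude.Def_Pi1
import Groth.Agent.CalgA.SerreCrit
import Groth.Agent.Ega4A.FlatAtPrime
import Groth.Agent.Ega4A.DepthBasic
import Mathlib.AlgebraicGeometry.Noetherian
import Mathlib.RingTheory.DiscreteValuationRing.TFAE
import Mathlib.Topology.KrullDimension

set_option autoImplicit false
universe u
open CategoryTheory CategoryTheory.Limits AlgebraicGeometry TopologicalSpace

namespace K592.NormLow

/-- Noetherian local integrally closed domains of dimension at most one are regular. -/
theorem isRegular_of_normal (R : Type u) [CommRing R] [IsLocalRing R] [IsNoetherianRing R]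
    [IsDomain R] [IsIntegrallyClosed R] (hd : ringKrullDim R ≤ 1) : IsRegularLocalRing R := by
  have h1 : IsPrincipalIdealRing R := by
    have hT : (IsIntegrallyClosed R ∧ ∀ P : Ideal R, P ≠ ⊥ → P.IsPrime →
        P = IsLocalRing.maximalIdeal R) ↔ IsPrincipalIdealRing R :=
      (tfae_of_isNoetherianRing_of_isLocalRing_of_isDomain R).out 3 0
    refine hT.mp ⟨inferInstance, ?_⟩
    intro P hP hPp
    have : Ring.KrullDimLE 1 R := Ring.krullDimLE_iff.mpr hd
    have h2 := Ring.krullDimLE_one_iff_of_isPrime_bot.mp this P hP hPp
    exact IsLocalRing.eq_maximalIdeal h2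
  infer_instance

/-- The dimension of a local ring of a scheme is at most the dimension of the scheme. -/
theorem ringKrullDim_stalk_le (X : Scheme.{u}) (x : X) :
    ringKrullDim (X.presheaf.stalk x) ≤ topologicalKrullDim X := by
  rw [ringKrullDim_stalk_eq_coheight]
  refine (Order.coheight_le_krullDim x).trans ?_
  refine Order.krullDim_le_of_strictMono (fun x : X =>
    (⟨closure {x}, isIrreducible_singleton.closure, isClosed_closure⟩ : IrreducibleCloseds X)) ?_
  intro a b hab
  have h1 : b ⤳ a := hab.le
  have h2 : ¬ a ⤳ b := fun h => hab.not_ge h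
  refine lt_of_le_of_ne h1.closure_subset ?_
  intro he
  have h3 : closure {a} = closure ({b} : Set X) :=
    congrArg (fun s : IrreducibleCloseds X => (s : Set X)) he
  exact h2 (specializes_iff_closure_subset.2 h3.ge)

/-- Noetherian local integrally closed domains of dimension at most two are Cohen-Macaulay. -/
theorem isCM_of_normal (R : Type u) [CommRing R] [IsLocalRing R] [IsNoetherianRing R]
    [IsDomain R] [IsIntegrallyClosed R] (hd : ringKrullDim R ≤ 2) :
    LocCoh.IsCohenMacaulayLocalRing R where
  supportDim_eq_depth := by
    have hS : LocCoh.HasSk 2 R R := Groth.Agent.CalgA.SerreCrit.hasSk_two_of_normal fun p hp =>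
      ⟨inferInstance, isIntegrallyClosed_of_isLocalization (Localization.AtPrime p) p.primeCompl
        p.primeCompl_le_nonZeroDivisors⟩
    have h1 := Groth.Agent.Ega4A.FlatAtPrime.le_depth_of_hasSk R 2 hS
    have h2 : Module.supportDim R R = ringKrullDim R := Module.supportDim_self_eq_ringKrullDim R
    refine le_antisymm ?_ (Groth.Agent.Ega4A.DepthBasic.depth_le_supportDim R)
    rw [h2] at h1 ⊢
    rwa [min_eq_right (by exact_mod_cast hd)] at h1

end K592.NormLow
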