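import Groth.Agent.Ega3B.DevQC
import Groth.Agent.PerfA.Restrict

set_option autoImplicit false
universe u
open CategoryTheory CategoryTheory.Limits AlgebraicGeometry TopologicalSpace Opposite
open AlgebraicGeometry.Scheme.Modules

namespace K592.Extend

open Groth.Agent

/-- The fibre product of quasi-coherent modules is quasi-coherent. -/
theorem isQCoh_pullback' {X : Scheme.{u}} {A B C : X.Modules} (f : A ⟶ C) (g : B ⟶ C)
    (hA : Coh.IsQCoh A) (hB : Coh.IsQCoh B) (hC : Coh.IsQCoh C) :
    Coh.IsQCoh (Limits.pullback f g) := by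
  have h1 : Coh.IsQCoh (kernel (biprod.desc f (-g))) :=
    PerfA.QCohSerre.isQCoh_kernel _ (Ega3B.DevQC.isQCoh_biprod hA hB) hC
  let e : kernel (biprod.desc f (-g)) ≅ Limits.pullback f g :=
    IsLimit.conePointUniqueUpToIso (kernelIsKernel (biprod.desc f (-g)))
      (Abelian.PullbackToBiproductIsKernel.isLimitPullbackToBiproduct f g)
  exact PerfA.QCohSerre.isQCoh_of_iso e h1

/-- Extension of a quasi-coherent module with a map to a quasi-coherent module along a
quasi-compact open immersion. -/
theorem exists_extension {X : Scheme.{u}} (U : X.Opens) [QuasiCompact U.ι]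
    (F : X.Modules) [Coh.IsQCoh F] (G : (U : Scheme.{u}).Modules) [Coh.IsQCoh G]
    (φ : G ⟶ F.restrict U.ι) :
    ∃ (H : X.Modules) (ψ : H ⟶ F) (e : H.restrict U.ι ≅ G), Coh.IsQCoh H ∧
      e.hom ≫ φ = (restrictFunctor U.ι).map ψ := by
  let R := restrictFunctor U.ι
  let P := Scheme.Modules.pushforward U.ι
  let adj : R ⊣ P := restrictAdjunction U.ι
  let η : F ⟶ P.obj (R.obj F) := adj.unit.app F
  let φ' : G ⟶ R.obj F := φ
  have hRF : Coh.IsQCoh (R.obj F) := PerfA.QCohSerre.isQCoh_restrict U.ι ‹_›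
  have hPRF : Coh.IsQCoh (P.obj (R.obj F)) := Ega3B.DevQC.isQCoh_push U.ι hRF
  have hPG : Coh.IsQCoh (P.obj G) := Ega3B.DevQC.isQCoh_push U.ι ‹_›
  let H := Limits.pullback η (P.map φ')
  have hR : IsPullback (R.map (pullback.fst η (P.map φ'))) (R.map (pullback.snd η (P.map φ')))
      (R.map η) (R.map (P.map φ')) :=
    (IsPullback.of_hasPullback η (P.map φ')).map R
  have hcu : IsIso (adj.counit) := inferInstanceAs (IsIso (restrictAdjunction U.ι).counit)
  have htri : R.map η ≫ adj.counit.app (R.obj F) = 𝟙 _ := adj.left_triangle_components F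
  have hη : IsIso (R.map η) := by
    have : IsIso (R.map η ≫ adj.counit.app (R.obj F)) := by rw [htri]; infer_instance
    exact IsIso.of_isIso_comp_right _ (adj.counit.app (R.obj F))
  have hsnd : IsIso (R.map (pullback.snd η (P.map φ'))) := hR.isIso_snd_of_isIso
  refine ⟨H, pullback.fst η (P.map φ'),
    asIso (R.map (pullback.snd η (P.map φ'))) ≪≫ asIso (adj.counit.app G), 
    isQCoh_pullback' _ _ ‹_› hPG hPRF, ?_⟩
  change (R.map (pullback.snd η (P.map φ')) ≫ adj.counit.app G) ≫ φ' = R.map _
  have hnat : R.map (P.map φ') ≫ adj.counit.app (R.obj F) = adj.counit.app G ≫ φ' :=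
    adj.counit_naturality φ'
  rw [Category.assoc, ← hnat, ← Category.assoc, ← R.map_comp, ← pullback.condition, R.map_comp,
    Category.assoc, htri, Category.comp_id]

end K592.Extend
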