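import Mathlib.AlgebraicGeometry.QuasiAffine
import Mathlib.AlgebraicGeometry.Morphisms.IsIso

set_option autoImplicit false
universe u
open CategoryTheory CategoryTheory.Limits AlgebraicGeometry TopologicalSpace

namespace K592.QAffPull

/-- On a quasi-compact quasi-separated scheme, `D(r)` is contained in the range of
`X ⟶ Spec Γ(X, ⊤)` if `X_r` is affine. -/
lemma mem_range_toSpecΓ {X : Scheme.{u}} [CompactSpace X] [QuasiSeparatedSpace X]
    (r : Γ(X, ⊤)) (hr : IsAffineOpen (X.basicOpen r)) (q : Spec Γ(X, ⊤)) (hq : r ∉ q.asIdeal) :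
    q ∈ Set.range X.toSpecΓ := by
  have hloc := isLocalization_basicOpen_of_qcqs (X := X) (U := ⊤) isCompact_univ
    isQuasiSeparated_univ r
  have h1 : ((X.basicOpen r).ι ≫ X.toSpecΓ) = hr.isoSpec.hom ≫
      Spec.map (X.presheaf.map (homOfLE le_top : X.basicOpen r ⟶ ⊤).op) := by
    rw [← Scheme.Opens.toSpecΓ_SpecMap_presheaf_map_top]
    rfl
  have h2 : q ∈ Set.range (Spec.map (X.presheaf.map (homOfLE le_top : X.basicOpen r ⟶ ⊤).op)) := by
    have h3 := PrimeSpectrum.localization_away_comap_range (Γ(X, X.basicOpen r)) r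
    change q ∈ Set.range (PrimeSpectrum.comap _)
    erw [h3]
    exact hq
  obtain ⟨z, rfl⟩ := h2
  obtain ⟨y, rfl⟩ := hr.isoSpec.hom.surjective z
  refine ⟨(X.basicOpen r).ι y, ?_⟩
  rw [← Scheme.Hom.comp_apply, h1, Scheme.Hom.comp_apply]

theorem isPullback {U V : Scheme.{u}} (j : U ⟶ V)
    [IsOpenImmersion j] [U.IsQuasiAffine] [V.IsQuasiAffine] :
    IsPullback (𝟙 U) U.toSpecΓ (j ≫ V.toSpecΓ) (Spec.map j.appTop) := by
  have hcomm : 𝟙 U ≫ j ≫ V.toSpecΓ = U.toSpecΓ ≫ Spec.map j.appTop := by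
    rw [Category.id_comp, Scheme.toSpecΓ_naturality]
  let P := pullback (j ≫ V.toSpecΓ) (Spec.map j.appTop)
  let l : U ⟶ P := pullback.lift (𝟙 U) U.toSpecΓ hcomm
  have hl : l ≫ pullback.snd _ _ = U.toSpecΓ := pullback.lift_snd _ _ _
  have hl' : l ≫ pullback.fst _ _ = 𝟙 U := pullback.lift_fst _ _ _
  have : IsOpenImmersion (l ≫ pullback.snd (j ≫ V.toSpecΓ) (Spec.map j.appTop)) := by
    rw [hl]; infer_instance
  have hlo : IsOpenImmersion l := IsOpenImmersion.of_comp l (pullback.snd (j ≫ V.toSpecΓ) (Spec.map j.appTop))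
  have hs : Function.Surjective l := by
    intro p
    let q := pullback.snd (j ≫ V.toSpecΓ) (Spec.map j.appTop) p
    let w := pullback.fst (j ≫ V.toSpecΓ) (Spec.map j.appTop) p
    have hqw : V.toSpecΓ (j w) = Spec.map j.appTop q := by
      have := congrArg (fun f => f p) (pullback.condition (f := j ≫ V.toSpecΓ) (g := Spec.map j.appTop))
      simpa using this
    obtain ⟨_, ⟨_, ⟨r, hr, rfl⟩, rfl⟩, hwr, hrU⟩ :=
      (Scheme.IsQuasiAffine.isBasis_basicOpen V).exists_subset_of_mem_open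
        (show j w ∈ (j.opensRange : Set V) from ⟨w, rfl⟩) j.opensRange.isOpen
    have hr' : IsAffineOpen (U.basicOpen (j.appTop r)) := by
      have h1 : j ⁻¹ᵁ V.basicOpen r = U.basicOpen (j.appTop r) := Scheme.preimage_basicOpen_top j r
      rw [← h1, ← Scheme.Hom.isAffineOpen_iff_of_isOpenImmersion j,
        Scheme.Hom.image_preimage_eq_opensRange_inf, inf_eq_right.2 (show V.basicOpen r ≤ j.opensRange from hrU)]
      exact hr
    have hq : j.appTop r ∉ q.asIdeal := by
      have h2 : V.toSpecΓ (j w) ∈ PrimeSpectrum.basicOpen r := by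
        have h3 : j w ∈ V.toSpecΓ ⁻¹ᵁ PrimeSpectrum.basicOpen r := by
          rw [Scheme.toSpecΓ_preimage_basicOpen]; exact hwr
        exact h3
      rw [hqw] at h2
      exact h2
    obtain ⟨u', hu'⟩ := mem_range_toSpecΓ (j.appTop r) hr' q hq
    refine ⟨u', ?_⟩
    apply (pullback.snd (j ≫ V.toSpecΓ) (Spec.map j.appTop)).isOpenEmbedding.injective
    rw [← Scheme.Hom.comp_apply, hl]
    exact hu'
  have : Surjective l := ⟨hs⟩
  have : IsIso l := (isIso_iff_isOpenImmersion_and_surjective l).2 ⟨hlo, this⟩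
  refine IsPullback.of_iso_pullback ⟨hcomm⟩ (asIso l) ?_ ?_
  · exact hl'
  · exact hl

end K592.QAffPull
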