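import Mathlib.AlgebraicGeometry.AffineSpace
import Groth.Agent.Props.K592.QAffPull

/-!
# The Jouanolou trick for quasi-affine schemes
-/

set_option autoImplicit false
universe u
open CategoryTheory CategoryTheory.Limits AlgebraicGeometry TopologicalSpace

namespace K592.Jou

section Sharp

variable {P Q : Scheme.{u}} {B C : CommRingCat.{u}}

/-- The ring map of a morphism to an affine scheme. -/
noncomputable def sh (f : P ⟶ Spec B) : B ⟶ Γ(P, ⊤) := (Scheme.ΓSpecIso B).inv ≫ f.appTop

lemma sh_ext {f g : P ⟶ Spec B} (h : sh f = sh g) : f = g :=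
  ext_of_isAffine ((cancel_epi _).1 h)

/-- The morphism attached to a ring map. -/
noncomputable def mk (φ : B ⟶ Γ(P, ⊤)) : P ⟶ Spec B := P.toSpecΓ ≫ Spec.map φ

lemma sh_mk (φ : B ⟶ Γ(P, ⊤)) : sh (mk φ) = φ := by
  simp [sh, mk]

lemma sh_comp (h : Q ⟶ P) (f : P ⟶ Spec B) : sh (h ≫ f) = sh f ≫ h.appTop := by
  simp [sh]

lemma sh_SpecMap (f : P ⟶ Spec B) (ψ : C ⟶ B) : sh (f ≫ Spec.map ψ) = ψ ≫ sh f := by
  simp [sh]

end Sharp

section Alg

variable (A : Type u) [CommRing A] {ι : Type u} [Fintype ι] (a : ι → A)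

/-- The relation `∑ a_i x_i = 1`. -/
noncomputable def rel : MvPolynomial (Option ι) A :=
  ∑ i, MvPolynomial.C (a i) * MvPolynomial.X (some i) - 1

/-- `A[x_i, y] / (∑ a_i x_i - 1)`. -/
abbrev Alg : Type u := MvPolynomial (Option ι) A ⧸ Ideal.span {rel A a}

/-- The variables. -/
noncomputable def var (o : Option ι) : Alg A a := Ideal.Quotient.mk _ (MvPolynomial.X o)

lemma sum_var : ∑ i, algebraMap A (Alg A a) (a i) * var A a (some i) = 1 := by
  have h : (Ideal.Quotient.mk (Ideal.span {rel A a})) (rel A a) = 0 :=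
    Ideal.Quotient.eq_zero_iff_mem.mpr (Ideal.subset_span rfl)
  rw [rel, map_sub, map_sum, sub_eq_zero, map_one] at h
  refine Eq.trans ?_ h
  refine Finset.sum_congr rfl fun i _ => ?_
  rw [map_mul]
  rfl

variable {A a}

/-- The universal property. -/
noncomputable def lift {R : Type u} [CommRing R] (φ : A →+* R) (v : ι → R) (w : R)
    (h : ∑ i, φ (a i) * v i = 1) : Alg A a →+* R :=
  Ideal.Quotient.lift _ (MvPolynomial.eval₂Hom φ (fun o => o.elim w v)) (by
    intro x hx
    have hle : Ideal.span {rel A a} ≤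
        RingHom.ker (MvPolynomial.eval₂Hom φ (fun o : Option ι => o.elim w v)) := by
      rw [Ideal.span_le, Set.singleton_subset_iff, SetLike.mem_coe, RingHom.mem_ker, rel]
      rw [map_sub, map_sum, map_one, sub_eq_zero, ← h]
      refine Finset.sum_congr rfl fun i _ => ?_
      simp
    exact RingHom.mem_ker.1 (hle hx))

lemma lift_algebraMap {R : Type u} [CommRing R] (φ : A →+* R) (v : ι → R) (w : R)
    (h : ∑ i, φ (a i) * v i = 1) (b : A) : lift φ v w h (algebraMap A (Alg A a) b) = φ b := by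
  have : algebraMap A (Alg A a) b = Ideal.Quotient.mk _ (MvPolynomial.C b) := rfl
  rw [this, lift, Ideal.Quotient.lift_mk]
  simp

lemma lift_var {R : Type u} [CommRing R] (φ : A →+* R) (v : ι → R) (w : R)
    (h : ∑ i, φ (a i) * v i = 1) (o : Option ι) : lift φ v w h (var A a o) = o.elim w v := by
  rw [var, lift, Ideal.Quotient.lift_mk]
  simp

lemma hom_ext {R : Type u} [CommRing R] {φ ψ : Alg A a →+* R}
    (h1 : ∀ b, φ (algebraMap A _ b) = ψ (algebraMap A _ b))
    (h2 : ∀ o, φ (var A a o) = ψ (var A a o)) : φ = ψ := by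
  refine Ideal.Quotient.ringHom_ext (MvPolynomial.ringHom_ext h1 h2)

end Alg

section Main

variable {A : CommRingCat.{u}} {ι : Type u} [Fintype ι] (a : ι → A) {X : Scheme.{u}}
  (j : X ⟶ Spec A) [Mono j]

/-- Base change of `Spec B` along `X' ⟶ X` is an affine space when the `a_i` generate the unit
ideal of `Γ(X', ⊤)`. -/
theorem exists_iso (p : Spec (.of (Alg A a)) ⟶ X)
    (hp : p ≫ j = Spec.map (CommRingCat.ofHom (algebraMap A (Alg A a))))
    {X' : Scheme.{u}} (g : X' ⟶ X) (c : ι → Γ(X', ⊤))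
    (hc : ∑ i, sh (g ≫ j) (a i) * c i = 1) :
    ∃ e : pullback g p ≅ 𝔸(ι; X'), e.hom ≫ (𝔸(ι; X') ↘ X') = pullback.fst g p := by
  let P := pullback g p
  let fst : P ⟶ X' := pullback.fst g p
  let snd : P ⟶ Spec (.of (Alg A a)) := pullback.snd g p
  have hcond : fst ≫ g = snd ≫ p := pullback.condition
  -- functions on `P`
  let φP : A ⟶ Γ(P, ⊤) := sh (fst ≫ g ≫ j)
  have hφP : ∀ b : A, (sh snd) (algebraMap A (Alg A a) b) = φP b := by
    intro b
    have h1 : φP = CommRingCat.ofHom (algebraMap A (Alg A a)) ≫ sh snd := by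
      change sh (fst ≫ g ≫ j) = _
      rw [← sh_SpecMap, ← hp, ← Category.assoc, hcond, Category.assoc]
    rw [h1]
    rfl
  have hφP' : ∀ b : A, φP b = fst.appTop (sh (g ≫ j) b) := by
    intro b
    change sh (fst ≫ g ≫ j) b = _
    rw [sh_comp]
    rfl
  let xP : ι → Γ(P, ⊤) := fun i => sh snd (var A a (some i))
  let yP : Γ(P, ⊤) := sh snd (var A a none)
  have hxP : ∑ i, φP (a i) * xP i = 1 := by
    have := congrArg (sh snd) (sum_var A a)
    rw [map_sum, map_one] at this
    rw [← this]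
    refine Finset.sum_congr rfl fun i _ => ?_
    rw [map_mul, hφP]
  let cP : ι → Γ(P, ⊤) := fun i => fst.appTop (c i)
  have hcP : ∑ i, φP (a i) * cP i = 1 := by
    have := congrArg fst.appTop hc
    rw [map_sum, map_one] at this
    rw [← this]
    refine Finset.sum_congr rfl fun i _ => ?_
    rw [map_mul, hφP']
  let zP : ι → Γ(P, ⊤) := fun i => xP i - cP i + yP * cP i
  have hzP : ∑ i, φP (a i) * zP i = yP := by
    have : ∀ i, φP (a i) * zP i = φP (a i) * xP i - φP (a i) * cP i + yP * (φP (a i) * cP i) := by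
      intro i
      simp only [zP]
      ring
    simp only [this, Finset.sum_add_distrib, Finset.sum_sub_distrib, ← Finset.mul_sum, hxP, hcP]
    ring
  let hom : P ⟶ 𝔸(ι; X') := AffineSpace.homOfVector fst zP
  -- functions on `Q`
  let π : 𝔸(ι; X') ⟶ X' := 𝔸(ι; X') ↘ X'
  let φQ : A ⟶ Γ(𝔸(ι; X'), ⊤) := sh (π ≫ g ≫ j)
  have hφQ' : ∀ b : A, φQ b = π.appTop (sh (g ≫ j) b) := by
    intro b
    change sh (π ≫ g ≫ j) b = _
    rw [sh_comp]
    rfl
  let cQ : ι → Γ(𝔸(ι; X'), ⊤) := fun i => π.appTop (c i)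
  have hcQ : ∑ i, φQ (a i) * cQ i = 1 := by
    have := congrArg π.appTop hc
    rw [map_sum, map_one] at this
    rw [← this]
    refine Finset.sum_congr rfl fun i _ => ?_
    rw [map_mul, hφQ']
  let ζ : ι → Γ(𝔸(ι; X'), ⊤) := fun i => AffineSpace.coord X' i
  let yQ : Γ(𝔸(ι; X'), ⊤) := ∑ i, φQ (a i) * ζ i
  let xQ : ι → Γ(𝔸(ι; X'), ⊤) := fun i => ζ i - yQ * cQ i + cQ i
  have hxQ : ∑ i, φQ (a i) * xQ i = 1 := by
    have : ∀ i, φQ (a i) * xQ i = φQ (a i) * ζ i - yQ * (φQ (a i) * cQ i) + φQ (a i) * cQ i := by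
      intro i
      simp only [xQ]
      ring
    simp only [this, Finset.sum_add_distrib, Finset.sum_sub_distrib, ← Finset.mul_sum, hcQ]
    simp only [yQ]
    ring
  let τ : 𝔸(ι; X') ⟶ Spec (.of (Alg A a)) := mk (CommRingCat.ofHom (lift φQ.hom xQ yQ hxQ))
  have hτ1 : ∀ b : A, sh τ (algebraMap A (Alg A a) b) = φQ b := by
    intro b
    rw [sh_mk]
    exact lift_algebraMap _ _ _ hxQ b
  have hτ2 : ∀ o, sh τ (var A a o) = o.elim yQ xQ := by
    intro o
    rw [sh_mk]
    exact lift_var _ _ _ hxQ o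
  have hτp : π ≫ g = τ ≫ p := by
    rw [← cancel_mono j]
    apply sh_ext
    rw [Category.assoc, Category.assoc, hp, sh_SpecMap]
    ext b
    exact (hτ1 b).symm
  let inv : 𝔸(ι; X') ⟶ P := pullback.lift π τ hτp
  have hinv1 : inv ≫ fst = π := pullback.lift_fst _ _ _
  have hinv2 : inv ≫ snd = τ := pullback.lift_snd _ _ _
  have hhom : hom ≫ π = fst := AffineSpace.homOfVector_over _ _
  have hhomc : ∀ i, hom.appTop (ζ i) = zP i := AffineSpace.homOfVector_appTop_coord _ _
  have hφ : ∀ b, hom.appTop (φQ b) = φP b := by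
    intro b
    have h1 : sh (hom ≫ π ≫ g ≫ j) = φQ ≫ hom.appTop := sh_comp _ _
    have h2 : hom ≫ π ≫ g ≫ j = fst ≫ g ≫ j := by rw [← Category.assoc, hhom]
    rw [h2] at h1
    exact (congrArg (fun f => f.hom b) h1).symm
  have hc' : ∀ i, hom.appTop (cQ i) = cP i := by
    intro i
    have h1 : (hom ≫ π).appTop (c i) = hom.appTop (π.appTop (c i)) := by
      rw [Scheme.Hom.comp_appTop]
      rfl
    rw [hhom] at h1
    exact h1.symm
  have hy : hom.appTop yQ = yP := by
    rw [← hzP, map_sum]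
    refine Finset.sum_congr rfl fun i _ => ?_
    rw [map_mul, hφ, hhomc]
  have e1 : hom ≫ inv = 𝟙 P := by
    apply pullback.hom_ext
    · change (hom ≫ inv) ≫ fst = 𝟙 _ ≫ fst
      rw [Category.assoc, hinv1, hhom, Category.id_comp]
    · change (hom ≫ inv) ≫ snd = 𝟙 _ ≫ snd
      rw [Category.assoc, hinv2, Category.id_comp]
      apply sh_ext
      rw [sh_comp]
      ext1
      refine hom_ext ?_ ?_
      · intro b
        change hom.appTop (sh τ (algebraMap A (Alg A a) b)) = sh snd (algebraMap A (Alg A a) b)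
        rw [hτ1, hφ, hφP]
      · intro o
        change hom.appTop (sh τ (var A a o)) = sh snd (var A a o)
        rw [hτ2]
        cases o with
        | none => exact hy
        | some i =>
          change hom.appTop (ζ i - yQ * cQ i + cQ i) = xP i
          rw [map_add, map_sub, map_mul, hhomc, hc', hy]
          simp only [zP]
          ring
  have e2 : inv ≫ hom = 𝟙 _ := by
    apply AffineSpace.hom_ext
    · change (inv ≫ hom) ≫ π = 𝟙 _ ≫ π
      rw [Category.assoc, hhom, hinv1, Category.id_comp]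
    · intro i
      have h1 : (inv ≫ hom).appTop (ζ i) = inv.appTop (hom.appTop (ζ i)) := by
        rw [Scheme.Hom.comp_appTop]
        rfl
      have h2 : ∀ b, inv.appTop (sh snd b) = sh τ b := by
        intro b
        rw [← hinv2, sh_comp]
        rfl
      have h3 : inv.appTop (cP i) = cQ i := by
        have h4 : (inv ≫ fst).appTop (c i) = inv.appTop (fst.appTop (c i)) := by
          rw [Scheme.Hom.comp_appTop]
          rfl
        rw [hinv1] at h4
        exact h4.symm
      change (inv ≫ hom).appTop (ζ i) = (𝟙 _ : 𝔸(ι; X') ⟶ _).appTop (ζ i)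
      rw [h1, hhomc]
      simp only [zP, xP, yP]
      rw [map_add, map_sub, map_mul, h2, h2, h3, hτ2, hτ2]
      simp only [Option.elim, xQ, Scheme.Hom.id_appTop]
      change _ = ζ i
      ring
  exact ⟨⟨hom, inv, e1, e2⟩, hhom⟩

end Main

end K592.Jou
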