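import Groth.Agent.Props.K592.Jou

set_option autoImplicit false
universe u
open CategoryTheory CategoryTheory.Limits AlgebraicGeometry TopologicalSpace

namespace K592.Jou

theorem main (X : Scheme.{u}) [X.IsQuasiAffine] :
    ∃ (n : ℕ) (T : Scheme.{u}) (_ : IsAffine T) (p : T ⟶ X),
      ∀ (X' : Scheme.{u}) [IsAffine X'] (g : X' ⟶ X),
        ∃ e : Limits.pullback g p ≅ 𝔸(ULift.{u} (Fin n); X'),
          e.hom ≫ (𝔸(ULift.{u} (Fin n); X') ↘ X') = Limits.pullback.fst g p := by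
  have h1 : ∀ x : X, ∃ r : Γ(X, ⊤), IsAffineOpen (X.basicOpen r) ∧ x ∈ X.basicOpen r := by
    intro x
    obtain ⟨_, ⟨_, ⟨r, hr, rfl⟩, rfl⟩, hxr, -⟩ :=
      (Scheme.IsQuasiAffine.isBasis_basicOpen X).exists_subset_of_mem_open
        (Set.mem_univ x) isOpen_univ
    exact ⟨r, hr, hxr⟩
  choose r hr hxr using h1
  obtain ⟨s, hs⟩ := isCompact_univ.elim_finite_subcover
    (fun x : X => (X.basicOpen (r x) : Set X)) (fun x => (X.basicOpen (r x)).isOpen)
    (fun x _ => Set.mem_iUnion.mpr ⟨x, hxr x⟩)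
  let ι := ULift.{u} (Fin s.card)
  let x : ι → X := fun i => (s.equivFin.symm i.down : X)
  let a : ι → Γ(X, ⊤) := fun i => r (x i)
  have hcov : ∀ y : X, ∃ i, y ∈ X.basicOpen (a i) := by
    intro y
    obtain ⟨z, hz, hyz⟩ := Set.mem_iUnion₂.mp (hs (Set.mem_univ y))
    refine ⟨⟨s.equivFin ⟨z, hz⟩⟩, ?_⟩
    simp only [a, x, Equiv.symm_apply_apply]
    exact hyz
  let j : X ⟶ Spec Γ(X, ⊤) := X.toSpecΓ
  have : IsOpenImmersion j := inferInstance
  let B : CommRingCat.{u} := .of (Alg Γ(X, ⊤) a)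
  let q : Spec B ⟶ Spec Γ(X, ⊤) :=
    Spec.map (CommRingCat.ofHom (algebraMap Γ(X, ⊤) (Alg Γ(X, ⊤) a)))
  have hq : Set.range q ⊆ Set.range j := by
    rintro _ ⟨z, rfl⟩
    have h2 : ∃ i, algebraMap Γ(X, ⊤) (Alg Γ(X, ⊤) a) (a i) ∉ z.asIdeal := by
      by_contra h3
      push Not at h3
      refine z.2.ne_top ((Ideal.eq_top_iff_one _).2 ?_)
      rw [← sum_var Γ(X, ⊤) a]
      exact Ideal.sum_mem _ fun i _ => Ideal.mul_mem_right _ _ (h3 i)
    obtain ⟨i, hi⟩ := h2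
    exact QAffPull.mem_range_toSpecΓ (a i) (hr _) (q z) hi
  let p : Spec B ⟶ X := IsOpenImmersion.lift j q hq
  have hp : p ≫ j = q := IsOpenImmersion.lift_fac _ _ _
  refine ⟨s.card, Spec B, inferInstance, p, fun X' _ g => ?_⟩
  have h3 : ∀ i, sh (g ≫ j) (a i) = g.appTop (a i) := by
    intro i
    rw [sh_comp]
    have h4 : sh j = 𝟙 _ := by
      simp [sh, j]
    rw [h4, Category.id_comp]
  have h4 : Ideal.span (Set.range fun i => sh (g ≫ j) (a i)) = ⊤ := by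
    rw [← (isAffineOpen_top X').iSup_basicOpen_eq_self_iff]
    apply top_le_iff.mp
    intro y _
    obtain ⟨i, hi⟩ := hcov (g y)
    refine Opens.mem_iSup.mpr ⟨⟨_, i, rfl⟩, ?_⟩
    change y ∈ X'.basicOpen (sh (g ≫ j) (a i))
    rw [h3, ← Scheme.preimage_basicOpen_top g]
    exact hi
  have h5 : (1 : Γ(X', ⊤)) ∈ Ideal.span (Set.range fun i => sh (g ≫ j) (a i)) := by
    rw [h4]; trivial
  obtain ⟨c, hc⟩ := Ideal.mem_span_range_iff_exists_fun.mp h5
  refine exists_iso a j p hp g c ?_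
  rw [← hc]
  exact Finset.sum_congr rfl fun i _ => mul_comm _ _

end K592.Jou
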