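import Groth.Agent.CalgA.NagataExt
import Groth.Agent.Ega1.ReducedSub
import Mathlib.AlgebraicGeometry.Morphisms.ClosedImmersion
import Mathlib.AlgebraicGeometry.Noetherian

set_option autoImplicit false
universe u
open CategoryTheory AlgebraicGeometry TopologicalSpace

namespace K592.NagSch

open Groth.Agent.CalgA

/-- The integral closed subscheme with a given generic point. -/
lemma exists_integral_closed {X : Scheme.{u}} (x : X) :
    ∃ (W : Scheme.{u}) (j : W ⟶ X) (_ : IsClosedImmersion j) (_ : IsIntegral W),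
      j (genericPoint W) = x := by
  let Z : Closeds X := ⟨closure {x}, isClosed_closure⟩
  let W := (Scheme.IdealSheafData.vanishingIdeal Z).subscheme
  let j : W ⟶ X := (Scheme.IdealSheafData.vanishingIdeal Z).subschemeι
  have hred : IsReduced W := Groth.Agent.Ega1.ReducedSub.isReduced_subscheme_vanishingIdeal _
  have h3 : Set.range j = closure {x} := by
    rw [Scheme.IdealSheafData.range_subschemeι]
    exact Scheme.IdealSheafData.coe_support_vanishingIdeal _
  have h4 : IsIrreducible (Set.range j) := by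
    rw [h3]; exact isIrreducible_singleton.closure
  have e : W ≃ₜ Set.range j := j.isClosedEmbedding.isEmbedding.toHomeomorph
  have : IrreducibleSpace W :=
    e.irreducibleSpace_iff.2 (isIrreducible_iff_irreducibleSpace.1 h4)
  have hint : IsIntegral W := isIntegral_of_irreducibleSpace_of_isReduced W
  refine ⟨W, j, inferInstance, hint, ?_⟩
  have h1 : x ∈ Set.range j := by rw [h3]; exact subset_closure rfl
  obtain ⟨w, hw⟩ := h1
  have h2 : j (genericPoint W) ⤳ j w :=
    ((genericPoint_spec W).specializes trivial).map j.continuous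
  rw [hw] at h2
  have h5 : x ⤳ j (genericPoint W) := by
    rw [specializes_iff_mem_closure, ← h3]
    exact ⟨_, rfl⟩
  exact (h2.antisymm h5).eq

/-- A surjective quotient of a Nagata ring which is a domain is N-2. -/
lemma isN2_of_surjective {R S : Type u} [CommRing R] [CommRing S] [IsDomain S] (φ : R →+* S)
    (hφ : Function.Surjective φ) (h : CAlg.IsNagata R) : CAlg.IsN2 S := by
  have : (RingHom.ker φ).IsPrime := RingHom.ker_isPrime φ
  exact NagataExt.isN2_of_ringEquiv (RingHom.quotientKerEquivOfSurjective hφ) (h.2 _)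

/-- The property N-2 on the affine opens of an integral scheme is local. -/
theorem isN2_of_cover {Z : Scheme.{u}} [IsIntegral Z]
    {ι : Type*} (U : ι → Z.affineOpens) (hU : (⨆ i, (U i).1) = ⊤)
    (h : ∀ i, ∀ _ : Nonempty (U i).1, CAlg.IsN2 Γ(Z, (U i).1)) (V : Z.affineOpens) :
    ∀ _ : Nonempty V.1, CAlg.IsN2 Γ(Z, V.1) := by
  refine of_affine_open_cover (P := fun V => ∀ _ : Nonempty V.1, CAlg.IsN2 Γ(Z, V.1)) U hU V
    ?_ ?_ h
  · intro U f hU hne
    have hne' : Nonempty U.1 := ⟨⟨hne.some.1, Z.basicOpen_le f hne.some.2⟩⟩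
    have := hU hne'
    have hloc : IsLocalization.Away f Γ(Z, Z.basicOpen f) := U.2.isLocalization_basicOpen f
    have hf : f ≠ 0 := by
      rintro rfl
      have h1 := hne.some.2
      have h2 : Z.basicOpen (0 : Γ(Z, U.1)) = ⊥ := Scheme.basicOpen_zero Z U.1
      have h3 : hne.some.1 ∈ Z.basicOpen (0 : Γ(Z, U.1)) := h1
      rw [h2] at h3
      exact h3
    have : Nonempty (Z.basicOpen f) := hne
    have hdom : IsDomain Γ(Z, Z.basicOpen f) := inferInstance
    exact NagataExt.isN2_of_isLocalization (S := Γ(Z, Z.basicOpen f)) (Submonoid.powers f)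
      (powers_le_nonZeroDivisors_of_noZeroDivisors hf) (hU hne')
  · intro U s hs hUs hne
    refine NagataExt.isN2_of_span_eq_top (s : Set Γ(Z, U.1)) hs ?_
    intro f hf hf0 T _ _ _ _
    have hne' : Nonempty (Z.basicOpen f) := by
      by_contra hem
      rw [not_nonempty_iff] at hem
      have h1 : Z.basicOpen f = ⊥ := by
        ext x
        constructor
        · intro hx; exact (hem.false ⟨x, hx⟩).elim
        · intro hx; exact hx.elim
      exact hf0 ((basicOpen_eq_bot_iff f).mp h1)
    have h1 : CAlg.IsN2 Γ(Z, Z.basicOpen f) := hUs ⟨f, hf⟩ hne'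
    have hloc : IsLocalization.Away f Γ(Z, Z.basicOpen f) := U.2.isLocalization_basicOpen f
    exact NagataExt.isN2_of_ringEquiv
      (IsLocalization.algEquiv (Submonoid.powers f) Γ(Z, Z.basicOpen f) T).toRingEquiv h1

theorem isN2_of_isNagata (X : Scheme.{u}) (h : ∀ U : X.Opens, IsAffineOpen U → CAlg.IsNagata Γ(X, U))
    (Z : Scheme.{u}) (i : Z ⟶ X) [IsClosedImmersion i] [IsIntegral Z]
    (V : Z.Opens) [hne : Nonempty V] (hV : IsAffineOpen V) : CAlg.IsN2 Γ(Z, V) := by
  refine isN2_of_cover (fun U : X.affineOpens => ⟨i ⁻¹ᵁ U.1, U.2.preimage i⟩) ?_ ?_ ⟨V, hV⟩ hne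
  · rw [← Scheme.Hom.preimage_iSup, iSup_affineOpens_eq_top, Scheme.Hom.preimage_top]
  · intro U hne'
    have hne'' : Nonempty (i ⁻¹ᵁ U.1) := hne'
    have : IsDomain Γ(Z, i ⁻¹ᵁ U.1) := inferInstance
    exact isN2_of_surjective (i.app U.1).hom (i.app_surjective U.1 U.2) (h U.1 U.2)

theorem isNagata_of_isN2 (X : Scheme.{u}) [IsLocallyNoetherian X]
    (h : ∀ (Z : Scheme.{u}) (i : Z ⟶ X) [IsClosedImmersion i] [IsIntegral Z]
        (V : Z.Opens) [Nonempty V], IsAffineOpen V → CAlg.IsN2 Γ(Z, V))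
    (U : X.Opens) (hU : IsAffineOpen U) : CAlg.IsNagata Γ(X, U) := by
  refine ⟨IsLocallyNoetherian.component_noetherian ⟨U, hU⟩, fun p hp => ?_⟩
  let pp : PrimeSpectrum Γ(X, U) := ⟨p, hp⟩
  obtain ⟨W, j, hj, hW, hx⟩ := exists_integral_closed (hU.fromSpec pp)
  have hmem : genericPoint W ∈ j ⁻¹ᵁ U := by
    change j (genericPoint W) ∈ U
    rw [hx]
    have h1 : hU.fromSpec pp ∈ Set.range hU.fromSpec := ⟨pp, rfl⟩
    rw [hU.range_fromSpec] at h1
    exact h1
  have hne : Nonempty (j ⁻¹ᵁ U) := ⟨⟨_, hmem⟩⟩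
  have : IsDomain Γ(W, j ⁻¹ᵁ U) := inferInstance
  have h2 : CAlg.IsN2 Γ(W, j ⁻¹ᵁ U) := h W j (j ⁻¹ᵁ U) (hU.preimage j)
  have hker : RingHom.ker (j.app U).hom = p := by
    ext f
    rw [RingHom.mem_ker]
    have h3 : (j.app U).hom f = 0 ↔ genericPoint W ∉ W.basicOpen ((j.app U).hom f) := by
      rw [← basicOpen_eq_bot_iff]
      constructor
      · intro h4; rw [h4]; exact fun h => h
      · intro h4
        by_contra h5
        refine h4 ((genericPoint_spec W).mem_open_set_iff (W.basicOpen _).isOpen |>.mpr ?_)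
        have h6 : ((W.basicOpen ((j.app U).hom f) : W.Opens) : Set W).Nonempty := by
          rw [Set.nonempty_iff_ne_empty]
          intro h7
          exact h5 (Opens.ext h7)
        simpa using h6
    rw [h3]
    have h4 : genericPoint W ∈ W.basicOpen ((j.app U).hom f) ↔ f ∉ p := by
      have h5 : j ⁻¹ᵁ X.basicOpen f = W.basicOpen ((j.app U).hom f) :=
        Scheme.preimage_basicOpen j f
      rw [← h5]
      change j (genericPoint W) ∈ X.basicOpen f ↔ _
      rw [hx]
      change pp ∈ hU.fromSpec ⁻¹ᵁ X.basicOpen f ↔ _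
      rw [hU.fromSpec_preimage_basicOpen]
      rfl
    rw [h4, not_not]
  have e : Γ(W, j ⁻¹ᵁ U) ≃+* Γ(X, U) ⧸ p :=
    (RingHom.quotientKerEquivOfSurjective (j.app_surjective U hU)).symm.trans
      (Ideal.quotEquivOfEq hker)
  exact NagataExt.isN2_of_ringEquiv e h2

end K592.NagSch
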