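import Mathlib.AlgebraicGeometry.Noetherian
import Mathlib.RingTheory.Ideal.KrullsHeightTheorem
import Mathlib.Order.OrderIsoNat

set_option autoImplicit false
universe u
open CategoryTheory AlgebraicGeometry TopologicalSpace

namespace K592.Noeth

lemma coheight_lt_top (X : Scheme.{u}) [IsLocallyNoetherian X] (x : X) :
    Order.coheight x < ⊤ := by
  have h := ringKrullDim_stalk_eq_coheight x
  have h2 : ringKrullDim (X.presheaf.stalk x) < ⊤ := ringKrullDim_lt_top
  rw [h] at h2
  rw [lt_top_iff_ne_top] at h2 ⊢
  intro h3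
  rw [h3] at h2
  exact h2 rfl

/-- In a locally Noetherian scheme, strict generization is well founded. -/
lemma wellFounded_generization (X : Scheme.{u}) [IsLocallyNoetherian X] :
    WellFounded (fun a b : X => a ⤳ b ∧ a ≠ b) := by
  refine Subrelation.wf (r := fun a b : X => Order.coheight a < Order.coheight b) ?_
    (InvImage.wf (fun a : X => Order.coheight a) wellFounded_lt)
  rintro a b ⟨hab, hne⟩
  refine Order.coheight_strictAnti ?_ (coheight_lt_top X a)
  have h1 : b ≤ a := hab
  refine lt_of_le_not_ge h1 ?_
  intro h2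
  have h3 : b ⤳ a := h2
  exact hne (Inseparable.eq (hab.antisymm h3))

/-- In a Noetherian T0 space, strict specialization is well founded. -/
lemma wellFounded_specialization (X : Type u) [TopologicalSpace X] [NoetherianSpace X] [T0Space X] :
    WellFounded (fun a b : X => b ⤳ a ∧ a ≠ b) := by
  refine Subrelation.wf (r := fun a b : X => Closeds.closure {a} < Closeds.closure {b}) ?_
    (InvImage.wf (fun a : X => Closeds.closure {a}) wellFounded_lt)
  rintro a b ⟨hab, hne⟩
  have h1 : closure ({a} : Set X) ⊆ closure {b} := hab.closure_subset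
  refine lt_of_le_of_ne ?_ ?_
  · exact h1
  · intro he
    apply hne
    have : closure ({a} : Set X) = closure {b} := congrArg (fun s : Closeds X => (s : Set X)) he
    exact (inseparable_iff_closure_eq.2 this).eq

/-- Every member of a set of points of a locally Noetherian scheme is a specialization of a
member having no proper generization in the set. -/
lemma exists_max (X : Scheme.{u}) [IsLocallyNoetherian X] (T : Set X) (t : X) (ht : t ∈ T) :
    ∃ t₀ ∈ T, (∀ t' ∈ T, t' ⤳ t₀ → t' = t₀) ∧ t₀ ⤳ t := by
  obtain ⟨t₀, ⟨h0, h1⟩, h2⟩ := (wellFounded_generization X).has_min {a | a ∈ T ∧ a ⤳ t}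
    ⟨t, ht, specializes_rfl⟩
  refine ⟨t₀, h0, fun t' ht' hs => ?_, h1⟩
  by_contra hne
  exact h2 t' ⟨ht', hs.trans h1⟩ ⟨hs, hne⟩

/-- Ramsey type statement for two well founded opposite relations. -/
lemma exists_infinite_antichain (X : Scheme.{u}) [IsNoetherian X] (T : Set X) (hT : T.Infinite) :
    ∃ T' : Set X, T' ⊆ T ∧ T'.Infinite ∧ ∀ a ∈ T', ∀ b ∈ T', a ⤳ b → a = b := by
  have := hT.to_subtype
  let f : ℕ → X := fun n => (Infinite.natEmbedding T n : X)
  have hf : Function.Injective f := fun m n h =>
    (Infinite.natEmbedding T).injective (Subtype.ext h)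
  have hfT : ∀ n, f n ∈ T := fun n => (Infinite.natEmbedding T n).2
  obtain ⟨g, hg⟩ := exists_increasing_or_nonincreasing_subseq' (fun a b : X => b ⤳ a) f
  have hg' : ∀ m n : ℕ, m < n → ¬ (f (g n) ⤳ f (g m)) := by
    rcases hg with hg | hg
    · exfalso
      have hwf := wellFounded_generization X
      rw [wellFounded_iff_isEmpty_descending_chain] at hwf
      exact hwf.false ⟨fun n => f (g n), fun n => ⟨hg n, fun h => by
        have := g.injective (hf h)
        omega⟩⟩
    · exact hg
  obtain ⟨k, hk⟩ := exists_increasing_or_nonincreasing_subseq' (fun a b : X => a ⤳ b) (f ∘ g)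
  have hk' : ∀ m n : ℕ, m < n → ¬ (f (g (k m)) ⤳ f (g (k n))) := by
    rcases hk with hk | hk
    · exfalso
      have hwf := wellFounded_specialization X
      rw [wellFounded_iff_isEmpty_descending_chain] at hwf
      exact hwf.false ⟨fun n => f (g (k n)), fun n => ⟨hk n, fun h => by
        have := k.injective (g.injective (hf h))
        omega⟩⟩
    · exact hk
  refine ⟨Set.range fun n => f (g (k n)), ?_, ?_, ?_⟩
  · rintro _ ⟨n, rfl⟩; exact hfT _
  · exact Set.infinite_range_of_injective
      (hf.comp (g.injective.comp k.injective))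
  · rintro _ ⟨m, rfl⟩ _ ⟨n, rfl⟩ hs
    rcases lt_trichotomy m n with h | h | h
    · exact absurd hs (hk' m n h)
    · rw [h]
    · exact absurd hs (hg' _ _ (k.strictMono h))

/-- The points whose closure is the closure of a countable subset of `T`. -/
def countPts {X : Type u} [TopologicalSpace X] (T : Set X) : Set X :=
  {s | ∃ E ⊆ T, E.Countable ∧ closure E = closure {s}}

lemma closure_countable {X : Type u} [TopologicalSpace X] [NoetherianSpace X] [QuasiSober X]
    (T : Set X) (W : Closeds X) : ∀ E ⊆ T, E.Countable → closure E = W →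
      ∃ F : Set X, F.Finite ∧ F ⊆ countPts T ∧ (W : Set X) ⊆ ⋃ z ∈ F, closure {z} := by
  induction W using WellFoundedLT.induction with
  | ind W ih =>
    intro E hET hE hW
    by_cases hne : (W : Set X).Nonempty
    swap
    · refine ⟨∅, Set.finite_empty, Set.empty_subset _, ?_⟩
      rw [Set.not_nonempty_iff_eq_empty] at hne
      simp [hne]
    by_cases hirr : IsIrreducible (W : Set X)
    · obtain ⟨z, hz⟩ := QuasiSober.sober hirr W.isClosed
      refine ⟨{z}, Set.finite_singleton z, ?_, ?_⟩
      · rintro _ rfl
        exact ⟨E, hET, hE, by rw [hW]; exact hz.def.symm⟩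
      · simp only [Set.mem_singleton_iff, Set.iUnion_iUnion_eq_left]
        rw [hz.def]
    · have h2 : ¬ IsPreirreducible (W : Set X) := fun h => hirr ⟨hne, h⟩
      rw [isPreirreducible_iff_isClosed_union_isClosed] at h2
      push Not at h2
      obtain ⟨A, B, hA, hB, hWAB, hWA, hWB⟩ := h2
      have key : ∀ C : Set X, IsClosed C → ¬ (W : Set X) ⊆ C →
          ∃ F : Set X, F.Finite ∧ F ⊆ countPts T ∧ closure (E ∩ C) ⊆ ⋃ z ∈ F, closure {z} := by
        intro C hC hWC
        have hlt : Closeds.closure (E ∩ C) < W := by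
          have h1 : closure (E ∩ C) ⊆ C := closure_minimal Set.inter_subset_right hC
          refine lt_of_le_of_ne ?_ ?_
          · change closure (E ∩ C) ⊆ (W : Set X)
            rw [← hW]
            exact closure_mono Set.inter_subset_left
          · intro he
            apply hWC
            rw [← he]
            exact h1
        exact ih _ hlt (E ∩ C) (Set.inter_subset_left.trans hET) (hE.mono Set.inter_subset_left) rfl
      obtain ⟨F, hF, hFT, hF'⟩ := key A hA hWA
      obtain ⟨G, hG, hGT, hG'⟩ := key B hB hWB
      refine ⟨F ∪ G, hF.union hG, Set.union_subset hFT hGT, ?_⟩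
      rw [← hW]
      have hE2 : E = (E ∩ A) ∪ (E ∩ B) := by
        rw [← Set.inter_union_distrib_left]
        exact (Set.inter_eq_left.2 ((subset_closure.trans (hW.le)).trans hWAB)).symm
      rw [hE2, closure_union, Set.biUnion_union]
      exact Set.union_subset_union hF' hG'

lemma subset_countPts {X : Type u} [TopologicalSpace X] (T : Set X) : T ⊆ countPts T :=
  fun t ht => ⟨{t}, Set.singleton_subset_iff.2 ht, Set.countable_singleton t, rfl⟩

lemma exists_countable_closure {X : Type u} [TopologicalSpace X] (T : Set X) (E' : Set X)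
    (hE' : E'.Countable) (h : E' ⊆ countPts T) :
    ∃ E ⊆ T, E.Countable ∧ (⋃ s ∈ E', closure {s}) ⊆ closure E := by
  have h' : ∀ s : X, s ∈ E' → ∃ G : Set X, G ⊆ T ∧ G.Countable ∧ closure G = closure {s} :=
    fun s hs => h hs
  choose! G hG using h'
  refine ⟨⋃ s ∈ E', G s, ?_, ?_, ?_⟩
  · exact Set.iUnion₂_subset fun s hs => (hG s hs).1
  · exact hE'.biUnion fun s hs => (hG s hs).2.1
  · refine Set.iUnion₂_subset fun s hs => ?_
    rw [← (hG s hs).2.2]
    exact closure_mono (Set.subset_biUnion_of_mem (u := G) hs)

/-- A dense subset of a Noetherian scheme contains a countable dense subset. -/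
lemma exists_countable_dense (X : Scheme.{u}) [IsNoetherian X] (T : Set X) (hd : Dense T) :
    ∃ E : Set X, E ⊆ T ∧ E.Countable ∧ Dense E := by
  let M : Set X := {s | s ∈ countPts T ∧ ∀ t' ∈ countPts T, t' ⤳ s → t' = s}
  have hM : M.Finite := by
    by_contra hinf
    have hinf' : M.Infinite := hinf
    have := hinf'.to_subtype
    let f : ℕ → X := fun n => (Infinite.natEmbedding M n : X)
    have hf : Function.Injective f := fun m n h =>
      (Infinite.natEmbedding M).injective (Subtype.ext h)
    have hfM : ∀ n, f n ∈ M := fun n => (Infinite.natEmbedding M n).2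
    obtain ⟨E, hET, hE, hEc⟩ := exists_countable_closure T (Set.range f) (Set.countable_range f)
      (by rintro _ ⟨n, rfl⟩; exact (hfM n).1)
    obtain ⟨F, hF, hFT, hF'⟩ := closure_countable T (Closeds.closure E) E hET hE rfl
    have hsub : Set.range f ⊆ F := by
      rintro _ ⟨n, rfl⟩
      have h1 : f n ∈ closure E := hEc (Set.mem_biUnion (Set.mem_range_self n)
        (subset_closure (Set.mem_singleton _)))
      have h2 := hF' h1
      simp only [Set.mem_iUnion, exists_prop] at h2
      obtain ⟨z, hz, hz'⟩ := h2
      have h3 : z ⤳ f n := specializes_iff_mem_closure.2 hz'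
      rw [← (hfM n).2 z (hFT hz) h3]
      exact hz
    exact (Set.infinite_range_of_injective hf) (hF.subset hsub)
  obtain ⟨E, hET, hE, hEc⟩ := exists_countable_closure T M hM.countable (fun s hs => hs.1)
  refine ⟨E, hET, hE, ?_⟩
  rw [dense_iff_closure_eq, Set.eq_univ_iff_forall]
  intro x
  apply hEc
  have hcl : IsClosed (⋃ s ∈ M, closure ({s} : Set X)) :=
    hM.isClosed_biUnion fun s _ => isClosed_closure
  have hT : T ⊆ ⋃ s ∈ M, closure ({s} : Set X) := by
    intro t ht
    obtain ⟨t₀, h0, h1, h2⟩ := exists_max X (countPts T) t (subset_countPts T ht)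
    exact Set.mem_biUnion (show t₀ ∈ M from ⟨h0, h1⟩) (specializes_iff_mem_closure.1 h2)
  have := (closure_minimal hT hcl)
  rw [hd.closure_eq] at this
  exact this (Set.mem_univ x)

end K592.Noeth
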