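import Groth.Prelude.Def_Twist2
import Mathlib.AlgebraicGeometry.ProjectiveSpectrum.Basic

set_option autoImplicit false
universe u
open CategoryTheory CategoryTheory.Limits AlgebraicGeometry TopologicalSpace

namespace K592.ProjBasis

variable {R A : Type u} [CommRing R] [CommRing A] [Algebra R A] (𝒜 : ℕ → Submodule R A)
  [GradedAlgebra 𝒜]

lemma exists_pos_notMem (x : Proj 𝒜) : ∃ (d : ℕ) (f : A), 0 < d ∧ f ∈ 𝒜 d ∧
    f ∉ x.asHomogeneousIdeal := by
  by_contra h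
  push Not at h
  refine x.not_irrelevant_le ?_
  intro a ha
  change a ∈ x.asHomogeneousIdeal
  change a ∈ (HomogeneousIdeal.irrelevant 𝒜) at ha
  classical
  rw [← DirectSum.sum_support_decompose 𝒜 a]
  refine Ideal.sum_mem _ fun i _ => ?_
  rcases Nat.eq_zero_or_pos i with rfl | hi
  · rw [HomogeneousIdeal.mem_irrelevant_iff] at ha
    change GradedRing.proj 𝒜 0 a ∈ _
    rw [ha]
    exact Ideal.zero_mem _
  · exact h i _ hi (SetLike.coe_mem _)

/-- The basic opens of homogeneous elements of positive degree form a basis of `Proj`. -/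
theorem exists_basicOpen_le (x : Proj 𝒜) (W : (Proj 𝒜).Opens) (hx : x ∈ W) :
    ∃ (d : ℕ) (f : A), 0 < d ∧ f ∈ 𝒜 d ∧ x ∈ Proj.basicOpen 𝒜 f ∧ Proj.basicOpen 𝒜 f ≤ W := by
  obtain ⟨_, ⟨g, rfl⟩, hxg, hgW⟩ := (Opens.isBasis_iff_nbhd.mp (Proj.isBasis_basicOpen 𝒜)) hx
  rw [Proj.basicOpen_eq_iSup_proj, Opens.mem_iSup] at hxg
  obtain ⟨i, hi⟩ := hxg
  obtain ⟨d, f, hd, hf, hxf⟩ := exists_pos_notMem 𝒜 x
  refine ⟨d + i, f * GradedRing.proj 𝒜 i g, by omega,
    SetLike.mul_mem_graded hf (SetLike.coe_mem _), ?_, ?_⟩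
  · rw [Proj.basicOpen_mul]
    exact ⟨hxf, hi⟩
  · rw [Proj.basicOpen_mul]
    refine le_trans inf_le_right (le_trans ?_ hgW)
    rw [Proj.basicOpen_eq_iSup_proj 𝒜 g]
    exact le_iSup (fun i => Proj.basicOpen 𝒜 (GradedRing.proj 𝒜 i g)) i

end K592.ProjBasis
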