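import Mathlib.AlgebraicGeometry.Morphisms.Separated
import Mathlib.AlgebraicGeometry.ValuativeCriterion

set_option autoImplicit false
universe u
open CategoryTheory CategoryTheory.Limits AlgebraicGeometry TopologicalSpace

namespace K592.SepCrit

lemma appLE_appTop {X Y Z : Scheme.{u}} (i : Z ⟶ Y) (l : Y ⟶ X) (s : Z ⟶ X) (h : i ≫ l = s)
    (U : X.Opens) (hU : ⊤ ≤ l ⁻¹ᵁ U) (hs : ⊤ ≤ s ⁻¹ᵁ U) :
    l.appLE U ⊤ hU ≫ i.appTop = s.appLE U ⊤ hs := by
  subst h
  have h2 : i.appTop = i.appLE ⊤ ⊤ (le_of_eq rfl) := by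
    rw [Scheme.Hom.appLE]
    exact (Category.comp_id _).symm.trans (congrArg _ (Z.presheaf.map_id _).symm)
  rw [h2, Scheme.Hom.appLE_comp_appLE]

/-- Two morphisms from the spectrum of a domain to an affine open agreeing on the generic
point agree. -/
lemma eq_of_mem_affine {X : Scheme.{u}} {R K : Type u} [CommRing R] [IsDomain R] [Field K]
    [Algebra R K] [IsFractionRing R K] [IsLocalRing R] (U : X.Opens) (hU : IsAffineOpen U)
    (l₁ l₂ : Spec (.of R) ⟶ X)
    (h₁ : l₁ (IsLocalRing.closedPoint R) ∈ U) (h₂ : l₂ (IsLocalRing.closedPoint R) ∈ U)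
    (h : Spec.map (CommRingCat.ofHom (algebraMap R K)) ≫ l₁ =
      Spec.map (CommRingCat.ofHom (algebraMap R K)) ≫ l₂) : l₁ = l₂ := by
  have hdom : IsDominant (Spec.map (CommRingCat.ofHom (algebraMap R K))) := by
    constructor
    change DenseRange (PrimeSpectrum.comap (algebraMap R K))
    rw [PrimeSpectrum.denseRange_comap_iff_ker_le_nilRadical]
    rw [(RingHom.injective_iff_ker_eq_bot _).1 (FaithfulSMul.algebraMap_injective R K)]
    exact bot_le
  have hr : ∀ l : Spec (.of R) ⟶ X, l (IsLocalRing.closedPoint R) ∈ U →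
      Set.range l ⊆ Set.range U.ι := by
    rintro l hl _ ⟨p, rfl⟩
    rw [Scheme.Opens.range_ι]
    exact ((IsLocalRing.specializes_closedPoint p).map l.continuous).mem_open U.isOpen hl
  have : IsAffine U := hU
  have key : IsOpenImmersion.lift U.ι l₁ (hr l₁ h₁) = IsOpenImmersion.lift U.ι l₂ (hr l₂ h₂) := by
    refine ext_of_isDominant (Spec.map (CommRingCat.ofHom (algebraMap R K))) ?_
    rw [← cancel_mono U.ι]
    simp only [Category.assoc, IsOpenImmersion.lift_fac]
    rw [h]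
  have := congrArg (· ≫ U.ι) key
  simpa only [IsOpenImmersion.lift_fac] using this

/-- A separatedness criterion: `X` is covered by affine opens `U` such that for any two of them
`U ⊓ V = X_f` for some `f ∈ Γ(X, U)` whose restriction to `U ⊓ V` has an inverse coming from
`Γ(X, V)`. -/
theorem isSeparated_of_cover (X : Scheme.{u}) (P : X.Opens → Prop)
    (hP : ∀ x : X, ∃ U, P U ∧ x ∈ U) (haff : ∀ U, P U → IsAffineOpen U)
    (h : ∀ U V, P U → P V → ∃ (f : Γ(X, U)) (g : Γ(X, V)), X.basicOpen f = U ⊓ V ∧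
      X.presheaf.map (homOfLE (inf_le_left : U ⊓ V ≤ U)).op f *
        X.presheaf.map (homOfLE (inf_le_right : U ⊓ V ≤ V)).op g = 1) : X.IsSeparated := by
  have hqs : QuasiSeparatedSpace X := by
    choose U hU hxU using hP
    refine Scheme.quasiSeparatedSpace_of_isOpenCover U ?_ (fun x => haff _ (hU x)) ?_
    · exact top_le_iff.mp fun x _ => Opens.mem_iSup.mpr ⟨x, hxU x⟩
    · intro x y
      obtain ⟨f, g, hf, -⟩ := h _ _ (hU x) (hU y)
      have := ((haff _ (hU x)).basicOpen f).isCompact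
      rw [hf] at this
      exact this
  constructor
  have : QuasiSeparated (terminal.from X) := by
    infer_instance
  refine IsSeparated.of_valuativeCriterion _ ?_
  intro S
  refine ⟨?_⟩
  rintro ⟨l₁, hl₁, hl₁'⟩ ⟨l₂, hl₂, hl₂'⟩
  ext : 1
  dsimp at *
  obtain ⟨U, hU, hxU⟩ := hP (l₁ (IsLocalRing.closedPoint S.R))
  obtain ⟨V, hV, hxV⟩ := hP (l₂ (IsLocalRing.closedPoint S.R))
  obtain ⟨f, g, hf, hfg⟩ := h U V hU hV
  refine eq_of_mem_affine (K := S.K) V (haff V hV) l₁ l₂ ?_ hxV (hl₁.trans hl₂.symm)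
  let ι := Spec.map (CommRingCat.ofHom (algebraMap S.R S.K))
  have hr : ∀ (l : Spec (.of S.R) ⟶ X) (W : X.Opens), l (IsLocalRing.closedPoint S.R) ∈ W →
      ⊤ ≤ l ⁻¹ᵁ W := by
    intro l W hl p _
    exact ((IsLocalRing.specializes_closedPoint p).map l.continuous).mem_open W.isOpen hl
  have hU1 := hr l₁ U hxU
  have hV1 := hr l₂ V hxV
  let f' : Γ(Spec (.of S.R), ⊤) := l₁.appLE U ⊤ hU1 f
  let g' : Γ(Spec (.of S.R), ⊤) := l₂.appLE V ⊤ hV1 g
  have hUV : ⊤ ≤ S.i₁ ⁻¹ᵁ (U ⊓ V) := by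
    intro p _
    refine ⟨?_, ?_⟩
    · change S.i₁ p ∈ U
      rw [← hl₁, Scheme.Hom.comp_apply]
      exact hU1 trivial
    · change S.i₁ p ∈ V
      rw [← hl₂, Scheme.Hom.comp_apply]
      exact hV1 trivial
  have e1 : ι.appTop f' = S.i₁.appLE (U ⊓ V) ⊤ hUV
      (X.presheaf.map (homOfLE (inf_le_left : U ⊓ V ≤ U)).op f) := by
    have h1 : l₁.appLE U ⊤ hU1 ≫ ι.appTop =
        X.presheaf.map (homOfLE (inf_le_left : U ⊓ V ≤ U)).op ≫ S.i₁.appLE (U ⊓ V) ⊤ hUV := by
      rw [Scheme.Hom.map_appLE]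
      exact appLE_appTop _ _ _ hl₁ _ _ _
    exact congrArg (fun φ => φ.hom f) h1
  have e2 : ι.appTop g' = S.i₁.appLE (U ⊓ V) ⊤ hUV
      (X.presheaf.map (homOfLE (inf_le_right : U ⊓ V ≤ V)).op g) := by
    have h1 : l₂.appLE V ⊤ hV1 ≫ ι.appTop =
        X.presheaf.map (homOfLE (inf_le_right : U ⊓ V ≤ V)).op ≫ S.i₁.appLE (U ⊓ V) ⊤ hUV := by
      rw [Scheme.Hom.map_appLE]
      exact appLE_appTop _ _ _ hl₂ _ _ _
    exact congrArg (fun φ => φ.hom g) h1
  have hinj : Function.Injective (ι.appTop) := by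
    let e := arrowIsoΓSpecOfIsAffine (CommRingCat.ofHom <| algebraMap S.R S.K)
    let Q : MorphismProperty CommRingCat :=
      RingHom.toMorphismProperty <| fun f ↦ Function.Injective f
    have : (RingHom.toMorphismProperty <| fun f ↦ Function.Injective f).RespectsIso :=
      RingHom.toMorphismProperty_respectsIso_iff.mp RingHom.injective_respectsIso
    change Q _
    rw [← MorphismProperty.arrow_mk_iso_iff (P := Q) e]
    exact FaithfulSMul.algebraMap_injective S.R S.K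
  have hunit : f' * g' = 1 := by
    apply hinj
    rw [map_mul, e1, e2, ← map_mul, hfg, map_one, map_one]
  have hf' : IsUnit f' := IsUnit.of_mul_eq_one _ hunit
  have h3 : l₁ (IsLocalRing.closedPoint S.R) ∈ X.basicOpen f := by
    have h4 : (Spec (.of S.R)).basicOpen f' = ⊤ := (Spec (.of S.R)).toRingedSpace.basicOpen_of_isUnit hf'
    have h5 : l₁ ⁻¹ᵁ X.basicOpen f ⊓ ⊤ = (Spec (.of S.R)).basicOpen f' := by
      rw [Scheme.basicOpen_appLE]
      simp
    have h6 : IsLocalRing.closedPoint S.R ∈ (Spec (.of S.R)).basicOpen f' := by rw [h4]; trivial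
    rw [← h5] at h6
    exact h6.1
  rw [hf] at h3
  exact h3.2

end K592.SepCrit
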