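import Groth.Agent.Fdesc.LocGenAmple
import Groth.Agent.Props.K592.SepCrit

/-!
# Ratios of sections of powers of an invertible module

For `s : O ⟶ L^p`, `t : O ⟶ L^q` the function `t^p / s^q` on the locus `X_s`.
-/

set_option autoImplicit false
universe u
open CategoryTheory CategoryTheory.Limits AlgebraicGeometry TopologicalSpace

namespace K592.Ratio

open Groth.Agent.Fdesc.LocGen

variable {X : Scheme.{u}} {L : X.Modules} {p q : ℕ}

/-- `f = t^p / s^q` on `W`. -/
def Rel (s : Coh.structureModule X ⟶ CohB1.tensorPow L p)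
    (t : Coh.structureModule X ⟶ CohB1.tensorPow L q) {W : X.Opens} (f : Γ(X, W)) : Prop :=
  ∀ (V : X.Opens) (hV : V ≤ W) (e : Γ(L, V)), IsGen e → ∀ a b : Γ(X, V),
    sec s V = a • pow e p → sec t V = b • pow e q → ores hV f * a ^ q = b ^ p

variable {s : Coh.structureModule X ⟶ CohB1.tensorPow L p}
  {t : Coh.structureModule X ⟶ CohB1.tensorPow L q}

lemma Rel.res {W V : X.Opens} {f : Γ(X, W)} (hf : Rel s t f) (h : V ≤ W) :
    Rel s t (ores h f) := by
  intro V' hV' e he a b ha hb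
  rw [ores_ores]
  exact hf V' (hV'.trans h) e he a b ha hb

lemma Rel.of_gen {W : X.Opens} {f : Γ(X, W)} {e : Γ(L, W)} (he : IsGen e) {a b : Γ(X, W)}
    (ha : sec s W = a • pow e p) (hb : sec t W = b • pow e q) (hf : f * a ^ q = b ^ p) :
    Rel s t f := by
  intro V hV e' he' a' b' ha' hb'
  obtain ⟨u, hu, rfl⟩ := (he.res hV).exists_unit he'
  have h1 : a' * u ^ p = ores hV a := by
    refine ((he.res hV).pow p).ext ?_
    rw [smul_pow, smul_smul] at ha'
    rw [← ha', ← res_sec s hV, ha, res_smul, res_pow]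
  have h2 : b' * u ^ q = ores hV b := by
    refine ((he.res hV).pow q).ext ?_
    rw [smul_pow, smul_smul] at hb'
    rw [← hb', ← res_sec t hV, hb, res_smul, res_pow]
  have h3 := congrArg (ores hV) hf
  rw [map_mul, map_pow, map_pow, ← h1, ← h2] at h3
  refine (hu.pow (p * q)).mul_right_cancel ?_
  rw [mul_assoc]
  calc _ = ores hV f * (a' * u ^ p) ^ q := by rw [mul_pow a' (u ^ p) q, pow_mul]
    _ = (b' * u ^ q) ^ p := h3
    _ = _ := by rw [mul_pow, ← pow_mul, mul_comm q p]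

lemma isUnit_of_le_genLocus {W : X.Opens} (hW : W ≤ CohB1.genLocus _ s) {e : Γ(L, W)}
    (he : IsGen e) {a : Γ(X, W)} (ha : sec s W = a • pow e p) : IsUnit a := by
  have h1 := (le_genLocus_iff s W).mp hW
  rw [ha] at h1
  exact (he.pow p).isUnit_of_smul h1

lemma Rel.unique (hL : PicF.IsInvertible L) {W : X.Opens} (hW : W ≤ CohB1.genLocus _ s)
    {f f' : Γ(X, W)} (hf : Rel s t f) (hf' : Rel s t f') : f = f' := by
  have := fun x : W => exists_affine_gen hL x.2
  choose V e hV hxV hVW he using this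
  refine ores_ext V hVW (fun x hx => Opens.mem_iSup.mpr ⟨⟨x, hx⟩, hxV _⟩) fun x => ?_
  obtain ⟨a, ha⟩ := ((he x).pow p).exists_eq (sec s (V x))
  obtain ⟨b, hb⟩ := ((he x).pow q).exists_eq (sec t (V x))
  have hu := isUnit_of_le_genLocus ((hVW x).trans hW) (he x) ha
  exact (hu.pow q).mul_right_cancel
    ((hf _ (hVW x) _ (he x) a b ha hb).trans (hf' _ (hVW x) _ (he x) a b ha hb).symm)

lemma Rel.exists (hL : PicF.IsInvertible L) {W : X.Opens} (hW : W ≤ CohB1.genLocus _ s) :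
    ∃ f : Γ(X, W), Rel s t f := by
  have := fun x : W => exists_affine_gen hL x.2
  choose V e hV hxV hVW he using this
  have hcov : W ≤ ⨆ x, V x := fun x hx => Opens.mem_iSup.mpr ⟨⟨x, hx⟩, hxV _⟩
  have hloc : ∀ x : W, ∃ f : Γ(X, V x), Rel s t f := by
    intro x
    obtain ⟨a, ha⟩ := ((he x).pow p).exists_eq (sec s (V x))
    obtain ⟨b, hb⟩ := ((he x).pow q).exists_eq (sec t (V x))
    have hu := isUnit_of_le_genLocus ((hVW x).trans hW) (he x) ha
    refine ⟨b ^ p * ↑(hu.pow q).unit⁻¹, Rel.of_gen (he x) ha hb ?_⟩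
    rw [mul_assoc]
    have : (↑(hu.pow q).unit⁻¹ : Γ(X, V x)) * a ^ q = 1 := (hu.pow q).val_inv_mul
    rw [this, mul_one]
  choose f hf using hloc
  obtain ⟨g, hg⟩ := ores_glue V hVW hcov f fun i j =>
    Rel.unique hL (inf_le_left.trans ((hVW i).trans hW)) ((hf i).res _) ((hf j).res _)
  refine ⟨g, ?_⟩
  intro V' hV' e' he' a b ha hb
  refine ores_ext (fun x => V' ⊓ V x) (fun x => inf_le_left)
    (by rw [← inf_iSup_eq]; exact le_inf le_rfl (hV'.trans hcov)) fun x => ?_
  have h1 := hf x (V' ⊓ V x) inf_le_right _ (he'.res inf_le_left) (ores inf_le_left a)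
    (ores inf_le_left b)
    (by rw [← res_sec s (inf_le_left : V' ⊓ V x ≤ V'), ha, res_smul, res_pow])
    (by rw [← res_sec t (inf_le_left : V' ⊓ V x ≤ V'), hb, res_smul, res_pow])
  rw [← hg, ores_ores] at h1
  rw [map_mul, map_pow, map_pow, ores_ores]
  exact h1

lemma Rel.basicOpen_eq (hL : PicF.IsInvertible L) (hp : p ≠ 0) {W : X.Opens}
    (hW : W ≤ CohB1.genLocus _ s) {f : Γ(X, W)} (hf : Rel s t f) :
    X.basicOpen f = W ⊓ CohB1.genLocus _ t := by
  have := fun x : W => exists_affine_gen hL x.2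
  choose V e hV hxV hVW he using this
  have hcov : ∀ U : X.Opens, U ≤ W → U = ⨆ x, V x ⊓ U := by
    intro U hU
    apply le_antisymm
    · intro x hx
      exact Opens.mem_iSup.mpr ⟨⟨x, hU hx⟩, hxV _, hx⟩
    · exact iSup_le fun x => inf_le_right
  rw [hcov _ (X.basicOpen_le f), hcov (W ⊓ CohB1.genLocus _ t) inf_le_left]
  refine iSup_congr fun x => ?_
  obtain ⟨a, ha⟩ := ((he x).pow p).exists_eq (sec s (V x))
  obtain ⟨b, hb⟩ := ((he x).pow q).exists_eq (sec t (V x))
  have hu := isUnit_of_le_genLocus ((hVW x).trans hW) (he x) ha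
  have h1 := hf _ (hVW x) _ (he x) a b ha hb
  have h2 : V x ⊓ X.basicOpen f = X.basicOpen (ores (hVW x) f) :=
    (X.basicOpen_res f (homOfLE (hVW x)).op).symm
  have h3 : X.basicOpen (ores (hVW x) f) = X.basicOpen b := by
    have h4 : X.basicOpen (ores (hVW x) f * a ^ q) = X.basicOpen (ores (hVW x) f) := by
      rw [X.basicOpen_mul, X.basicOpen_of_isUnit (hu.pow q)]
      exact inf_eq_left.mpr (X.basicOpen_le _)
    rw [← h4, h1, X.basicOpen_pow _ (Nat.pos_of_ne_zero hp)]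
  rw [h2, h3, ← genLocus_inf_eq t ((he x).pow q) hb, inf_comm, ← inf_assoc, inf_eq_left.mpr (hVW x)]

/-- The ratio `t^p / s^q` and the ratio `s^q / t^p` are inverse to each other. -/
lemma Rel.mul_eq_one (hL : PicF.IsInvertible L) {W : X.Opens}
    (hW : W ≤ CohB1.genLocus _ s) (hW' : W ≤ CohB1.genLocus _ t) {f g : Γ(X, W)}
    (hf : Rel s t f) (hg : Rel t s g) : f * g = 1 := by
  have := fun x : W => exists_affine_gen hL x.2
  choose V e hV hxV hVW he using this
  refine ores_ext V hVW (fun x hx => Opens.mem_iSup.mpr ⟨⟨x, hx⟩, hxV _⟩) fun x => ?_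
  obtain ⟨a, ha⟩ := ((he x).pow p).exists_eq (sec s (V x))
  obtain ⟨b, hb⟩ := ((he x).pow q).exists_eq (sec t (V x))
  have hu := isUnit_of_le_genLocus ((hVW x).trans hW) (he x) ha
  have hu' := isUnit_of_le_genLocus ((hVW x).trans hW') (he x) hb
  have h1 := hf _ (hVW x) _ (he x) a b ha hb
  have h2 := hg _ (hVW x) _ (he x) b a hb ha
  refine ((hu.pow q).mul (hu'.pow p)).mul_right_cancel ?_
  rw [map_mul, map_one, one_mul]
  calc _ = (ores (hVW x) f * a ^ q) * (ores (hVW x) g * b ^ p) := by ring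
    _ = _ := by rw [h1, h2, mul_comm]

/-- A scheme covered by affine loci `X_s` of sections of positive powers is separated. -/
theorem isSeparated (hL : PicF.IsInvertible L)
    (h : ∀ x : X, ∃ (n : ℕ) (s : Coh.structureModule X ⟶ CohB1.tensorPow L (n + 1)),
      x ∈ CohB1.genLocus _ s ∧ IsAffineOpen (CohB1.genLocus _ s)) : X.IsSeparated := by
  refine SepCrit.isSeparated_of_cover X (fun U => IsAffineOpen U ∧
    ∃ (n : ℕ) (s : Coh.structureModule X ⟶ CohB1.tensorPow L (n + 1)),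
      U = CohB1.genLocus _ s) ?_ (fun U hU => hU.1) ?_
  · intro x
    obtain ⟨n, s, hx, hs⟩ := h x
    exact ⟨_, ⟨hs, n, s, rfl⟩, hx⟩
  · rintro U V ⟨-, n, s, rfl⟩ ⟨-, m, t, rfl⟩
    obtain ⟨f, hf⟩ := Rel.exists (s := s) (t := t) hL le_rfl
    obtain ⟨g, hg⟩ := Rel.exists (s := t) (t := s) hL le_rfl
    refine ⟨f, g, hf.basicOpen_eq hL n.succ_ne_zero le_rfl, ?_⟩
    exact Rel.mul_eq_one hL inf_le_left inf_le_right (hf.res _) (hg.res _)

end K592.Ratio
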