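import Groth.Agent.Ega2.TwistBasic
import Groth.Agent.Ega2.AmpleWeight
import Groth.Agent.Fdesc.LocGenAmple
import Groth.Agent.Props.K592.ProjBasis

set_option autoImplicit false
universe u
open CategoryTheory CategoryTheory.Limits AlgebraicGeometry TopologicalSpace Opposite

namespace K592.TwistAmple

open Groth.Agent Groth.Agent.Fdesc.LocGen Twist

variable {R A : Type u} [CommRing R] [CommRing A] [Algebra R A] {𝒜 : ℕ → Submodule R A}
  [GradedAlgebra 𝒜] {d : ℕ}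

/-- The section of `O(d)` given by a homogeneous element of degree `d`. -/
noncomputable def gsec (f : 𝒜 d) (U : (Proj 𝒜).Opens) : Γ(twist 𝒜 (d : ℤ), U) :=
  Ega2.TwistBasic.fracSec (d : ℤ) f (⟨1, SetLike.GradedOne.one_mem⟩ : 𝒜 0) (by simp) U
    (fun x _ h => x.isPrime.ne_top ((Ideal.eq_top_iff_one _).mpr h))

lemma res_gsec (f : 𝒜 d) {U V : (Proj 𝒜).Opens} (h : V ≤ U) :
    res (twist 𝒜 (d : ℤ)) h (gsec f U) = gsec f V := rfl

lemma isGen_gsec (f : 𝒜 d) (U : (Proj 𝒜).Opens) (hU : ∀ x ∈ U, f.1 ∉ x.asHomogeneousIdeal) :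
    IsGen (gsec f U) :=
  Ega2.TwistBasic.isGen_fracSec (d : ℤ) f (⟨1, SetLike.GradedOne.one_mem⟩ : 𝒜 0) (by simp) U
    (fun x _ h => x.isPrime.ne_top ((Ideal.eq_top_iff_one _).mpr h)) hU

lemma notMem_of_isGen {f g : 𝒜 d} {U : (Proj 𝒜).Opens} (h : IsGen (gsec f U)) {x : Proj 𝒜}
    (hx : x ∈ U) (hg : g.1 ∉ x.asHomogeneousIdeal) : f.1 ∉ x.asHomogeneousIdeal := by
  intro hf
  have hprime : x.asHomogeneousIdeal.toIdeal.IsPrime := x.isPrime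
  obtain ⟨c, hc⟩ := h.exists_eq (gsec g U)
  have h1 : ((gsec g U : sectN (𝒜 := 𝒜) (d : ℤ) (op U)).1 ⟨x, hx⟩).1 =
      ((c.1 ⟨x, hx⟩ : A0 𝒜 x)).val *
        ((gsec f U : sectN (𝒜 := 𝒜) (d : ℤ) (op U)).1 ⟨x, hx⟩).1 := by
    have h2 := congrArg (fun t : sectN (𝒜 := 𝒜) (d : ℤ) (op U) => (t.1 ⟨x, hx⟩).1) hc
    exact h2.trans (Ega2.TwistBasic.smulS_val (d : ℤ) c _ _)
  have h3 : (Localization.mk g.1 1 : Loc 𝒜 x) =
      (c.1 ⟨x, hx⟩ : A0 𝒜 x).val * Localization.mk f.1 1 := h1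
  obtain ⟨c', hc'⟩ : ∃ c', c' = (c.1 ⟨x, hx⟩ : A0 𝒜 x).val := ⟨_, rfl⟩
  rw [← hc'] at h3
  have h4 : (Localization.mk g.1 1 : Loc 𝒜 x) ∈ IsLocalRing.maximalIdeal (Loc 𝒜 x) := by
    rw [h3]
    refine Ideal.mul_mem_left _ _ ?_
    rw [← Localization.AtPrime.map_eq_maximalIdeal]
    exact Ideal.mem_map_of_mem _ hf
  have h5 : IsUnit (Localization.mk g.1 1 : Loc 𝒜 x) := IsLocalization.map_units
    (M := x.asHomogeneousIdeal.toIdeal.primeCompl) (Loc 𝒜 x) ⟨g.1, hg⟩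
  exact h4 h5

/-- The global section of `O(d)`. -/
noncomputable def gHom (f : 𝒜 d) : Coh.structureModule (Proj 𝒜) ⟶ twist 𝒜 (d : ℤ) :=
  homOf (gsec f ⊤)

lemma sec_gHom (f : 𝒜 d) (U : (Proj 𝒜).Opens) : sec (gHom f) U = gsec f U := by
  rw [gHom, sec_homOf, res_gsec]

/-- `genLocus` of a pulled back section along an open immersion. -/
lemma genLocus_pullHom_openImmersion {X Y : Scheme.{u}} (j : X ⟶ Y) [IsOpenImmersion j]
    {M : Y.Modules} (s : Coh.structureModule Y ⟶ M) :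
    CohB1.genLocus _ (pullHom j s) = j ⁻¹ᵁ CohB1.genLocus M s := by
  have key : ∀ V : Y.Opens, V ≤ j.opensRange →
      (IsGen (sec (pullHom j s) (j ⁻¹ᵁ V)) ↔ IsGen (sec s V)) := by
    intro V hV
    rw [sec_pullHom, isGen_pullSec_openImmersion_iff j _ hV]
  apply le_antisymm
  · intro x hx
    obtain ⟨W, hxW, hW⟩ := (mem_genLocus_iff _ x).mp hx
    rw [← j.preimage_image_eq W, key _ (j.image_le_opensRange W)] at hW
    have h1 : j x ∈ j ''ᵁ W := ⟨x, hxW, rfl⟩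
    exact (mem_genLocus_iff s (j x)).mpr ⟨_, h1, hW⟩
  · rw [le_genLocus_iff, sec_pullHom]
    exact (isGen_sec_genLocus s).pullSec j

lemma genLocus_gHom {X : Scheme.{u}} (j : X ⟶ Proj 𝒜) [IsOpenImmersion j]
    (hcov : ∀ x : X, ∃ g : 𝒜 d, j x ∈ Proj.basicOpen 𝒜 g.1) (f : 𝒜 d) :
    CohB1.genLocus _ (pullHom j (gHom f)) = j ⁻¹ᵁ Proj.basicOpen 𝒜 f.1 := by
  rw [genLocus_pullHom_openImmersion]
  apply le_antisymm
  · intro x hx
    obtain ⟨W, hxW, hW⟩ := (mem_genLocus_iff _ (j x)).mp hx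
    obtain ⟨g, hg⟩ := hcov x
    rw [sec_gHom] at hW
    exact notMem_of_isGen hW hxW hg
  · refine j.preimage_mono ?_
    rw [le_genLocus_iff, sec_gHom]
    exact isGen_gsec f _ fun x hx => hx

theorem isAmple {X : Scheme.{u}} [CompactSpace X] (j : X ⟶ Proj 𝒜) [IsOpenImmersion j]
    (hd : 0 < d) (hcov : ∀ x : X, ∃ g : 𝒜 d, j x ∈ Proj.basicOpen 𝒜 g.1 ∧
      Proj.basicOpen 𝒜 g.1 ≤ j.opensRange) :
    CohB1.IsAmple ((Scheme.Modules.pullback j).obj (twist 𝒜 (d : ℤ))) := by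
  have hinv : PicF.IsInvertible ((Scheme.Modules.pullback j).obj (twist 𝒜 (d : ℤ))) := by
    rw [isInvertible_iff]
    intro x
    obtain ⟨g, hg, hg'⟩ := hcov x
    exact ⟨_, _, hg, (isGen_gsec g (Proj.basicOpen 𝒜 g.1) fun x hx => hx).pullSec j⟩
  refine Ega2.Weight.isAmple_of_wt hinv fun x => ?_
  obtain ⟨g, hg, hg'⟩ := hcov x
  refine ⟨1, one_pos, _, Ega2.Weight.Wt.fst, pullHom j (gHom g), ?_, ?_⟩
  · rw [genLocus_gHom j (fun x => (hcov x).imp fun _ h => h.1)]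
    exact hg
  · rw [genLocus_gHom j (fun x => (hcov x).imp fun _ h => h.1)]
    have h1 := Proj.isAffineOpen_basicOpen 𝒜 g.1 g.2 hd
    exact (j.isAffineOpen_iff_of_isOpenImmersion.mp (by
      rw [j.image_preimage_eq_opensRange_inf, inf_eq_right.mpr hg']; exact h1))

/-- A quasi-compact open subscheme of `Proj 𝒜` has an ample twist. -/
theorem exists_isAmple (X : Scheme.{u}) [CompactSpace X] (j : X ⟶ Proj 𝒜) [IsOpenImmersion j] :
    ∃ d : ℕ, 0 < d ∧ CohB1.IsAmple ((Scheme.Modules.pullback j).obj (twist 𝒜 (d : ℤ))) := by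
  have h1 := fun x : X => ProjBasis.exists_basicOpen_le 𝒜 (j x) j.opensRange ⟨x, rfl⟩
  choose e f he hf hxf hfj using h1
  obtain ⟨s, hs⟩ := isCompact_univ.elim_finite_subcover
    (fun x : X => ((j ⁻¹ᵁ Proj.basicOpen 𝒜 (f x) : X.Opens) : Set X))
    (fun x => (j ⁻¹ᵁ Proj.basicOpen 𝒜 (f x)).isOpen)
    (fun x _ => Set.mem_iUnion.mpr ⟨x, hxf x⟩)
  let d : ℕ := ∏ x ∈ s, e x
  have hd : 0 < d := Finset.prod_pos fun x _ => he x
  refine ⟨d, hd, isAmple j hd fun y => ?_⟩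
  obtain ⟨x, hx, hyx⟩ := Set.mem_iUnion₂.mp (hs (Set.mem_univ y))
  obtain ⟨k, hk⟩ : e x ∣ d := Finset.dvd_prod_of_mem e hx
  have hk0 : 0 < k := Nat.pos_of_ne_zero fun h => by rw [h, mul_zero] at hk; omega
  refine ⟨⟨f x ^ k, ?_⟩, ?_, ?_⟩
  · have := SetLike.pow_mem_graded k (hf x)
    rwa [smul_eq_mul, mul_comm, ← hk] at this
  · rw [Proj.basicOpen_pow _ _ _ hk0]
    exact hyx
  · rw [Proj.basicOpen_pow _ _ _ hk0]
    exact hfj x

end K592.TwistAmple
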