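import Groth.Agent.CalgC.GeomUnibranchIff

/-!
# Local rings of ind-étale algebras over geometrically unibranch local rings
-/

set_option autoImplicit false
universe u
open TensorProduct IsLocalRing

namespace K592.UniLoc

open Groth.Agent.CalgC.GeomUnibranchAscend Groth.Agent.CalgC.LazardEtale

theorem isPrime_nilradical_etale {A C : Type u} [CommRing A] [CommRing C] [Algebra A C]
    [Algebra.Etale A C] (r : Ideal C) [r.IsPrime]
    (hA : CAlg2.IsGeomUnibranch (Localization.AtPrime (r.comap (algebraMap A C)))) :
    (nilradical (Localization.AtPrime r)).IsPrime := by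
  let p := r.comap (algebraMap A C)
  let A' := Localization.AtPrime p
  let B := Localization.AtPrime r
  let f : A' →+* B := Localization.localRingHom p r (algebraMap A C) rfl
  let : Algebra A' B := f.toAlgebra
  have : IsScalarTower A A' B := .of_algebraMap_eq fun a => by
    rw [IsScalarTower.algebraMap_apply A C B]
    exact (Localization.localRingHom_to_map p r (algebraMap A C) rfl a).symm
  have : IsLocalHom (algebraMap A' B) := Localization.isLocalHom_localRingHom p r _ rfl
  let g : A' ⊗[A] C →ₐ[A'] B := Algebra.TensorProduct.lift (Algebra.ofId A' B)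
    (IsScalarTower.toAlgHom A C B) (fun _ _ => .all _ _)
  let : Algebra (A' ⊗[A] C) B := g.toRingHom.toAlgebra
  have : IsScalarTower A' (A' ⊗[A] C) B := .of_algebraMap_eq' g.comp_algebraMap.symm
  let : Algebra C (A' ⊗[A] C) := Algebra.TensorProduct.rightAlgebra
  have : IsScalarTower C (A' ⊗[A] C) B := .of_algebraMap_eq fun c => by
    change _ = g (1 ⊗ₜ[A] c)
    rw [Algebra.TensorProduct.lift_tmul, map_one, one_mul]
    rfl
  have : IsLocalization (Algebra.algebraMapSubmonoid C p.primeCompl) (A' ⊗[A] C) :=
    IsLocalization.tensorRight (S := C) (A := A') (M := p.primeCompl)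
  have hle : Algebra.algebraMapSubmonoid C p.primeCompl ≤ r.primeCompl := by
    rintro _ ⟨a, ha, rfl⟩
    exact ha
  have := IsLocalization.isLocalization_of_submonoid_le (A' ⊗[A] C) B
    (Algebra.algebraMapSubmonoid C p.primeCompl) r.primeCompl hle
  exact isPrime_nilradical_of_isDomain_tensor (A := A')
    (isDomain_red_tensor (C := A' ⊗[A] C) (r.primeCompl.map (algebraMap C (A' ⊗[A] C))) hA)

theorem isPrime_nilradical_atPrime {A S : Type u} [CommRing A] [CommRing S] [Algebra A S]
    (h : FactorsEtale A S) (q : Ideal S) [hq : q.IsPrime]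
    (hA : CAlg2.IsGeomUnibranch (Localization.AtPrime (q.comap (algebraMap A S)))) :
    (nilradical (Localization.AtPrime q)).IsPrime := by
  refine ⟨?_, fun {x y} hxy => ?_⟩
  · intro htop
    exact not_isNilpotent_one (mem_nilradical.mp (htop ▸ trivial :
      (1 : Localization.AtPrime q) ∈ nilradical _))
  obtain ⟨⟨x', s⟩, hx⟩ := IsLocalization.surj q.primeCompl x
  obtain ⟨⟨y', t⟩, hy⟩ := IsLocalization.surj q.primeCompl y
  dsimp only at hx hy
  -- the product of `x'` and `y'` is nilpotent after multiplication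
  have hn : ∃ w ∉ q, ∃ n : ℕ, w * (x' * y') ^ n = 0 := by
    have h1 : algebraMap S (Localization.AtPrime q) (x' * y') ∈
        nilradical (Localization.AtPrime q) := by
      rw [map_mul, ← hx, ← hy]
      have : x * algebraMap S _ s.1 * (y * algebraMap S _ t.1) =
        (x * y) * (algebraMap S _ s.1 * algebraMap S _ t.1) := by ring
      rw [this]
      exact Ideal.mul_mem_right _ _ hxy
    obtain ⟨n, hn⟩ := mem_nilradical.mp h1
    rw [← map_pow, IsLocalization.map_eq_zero_iff q.primeCompl] at hn
    obtain ⟨w, hw⟩ := hn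
    exact ⟨w.1, w.2, n, hw⟩
  obtain ⟨w, hw, n, hwn⟩ := hn
  obtain ⟨C, _, _, _, c, χ, hc, hp⟩ := h.exists_lift (σ := Fin 3) ![x', y', w]
    {MvPolynomial.X 2 * (MvPolynomial.X 0 * MvPolynomial.X 1) ^ n} (by
      intro p hp
      rw [Finset.mem_singleton] at hp
      subst hp
      simpa using hwn)
  have h0 : c 2 * (c 0 * c 1) ^ n = 0 := by
    have := hp _ (Finset.mem_singleton_self _)
    simpa using this
  let r : Ideal C := q.comap χ.toRingHom
  have hr' : r.IsPrime := inferInstance
  have hr : r.comap (algebraMap A C) = q.comap (algebraMap A S) := by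
    rw [Ideal.comap_comap]
    congr 1
    exact χ.comp_algebraMap
  have hprime : (nilradical (Localization.AtPrime r)).IsPrime := by
    refine isPrime_nilradical_etale (A := A) r ?_
    have : ∀ (I J : Ideal A) (_ : I = J) [I.IsPrime] [J.IsPrime],
        CAlg2.IsGeomUnibranch (Localization.AtPrime J) →
        CAlg2.IsGeomUnibranch (Localization.AtPrime I) := by
      rintro I J rfl _ _ h; exact h
    exact this _ _ hr hA
  let F : Localization.AtPrime r →+* Localization.AtPrime q := Localization.localRingHom r q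
    χ.toRingHom rfl
  have hF : ∀ z, F (algebraMap C _ z) = algebraMap S _ (χ z) := fun z =>
    Localization.localRingHom_to_map r q χ.toRingHom rfl z
  have hc2 : IsUnit (algebraMap C (Localization.AtPrime r) (c 2)) := by
    have : c 2 ∉ r := by
      intro h2
      have h3 : χ (c 2) ∈ q := h2
      rw [hc 2] at h3
      exact hw h3
    exact IsLocalization.map_units (M := r.primeCompl) _ ⟨c 2, this⟩
  have h1 : algebraMap C (Localization.AtPrime r) (c 0) *
      algebraMap C (Localization.AtPrime r) (c 1) ∈ nilradical (Localization.AtPrime r) := by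
    rw [← map_mul, mem_nilradical]
    refine ⟨n, ?_⟩
    have h4 := congrArg (algebraMap C (Localization.AtPrime r)) h0
    rw [map_mul, map_zero, map_pow] at h4
    exact hc2.mul_right_eq_zero.mp h4
  have hfin : ∀ i, algebraMap C (Localization.AtPrime r) (c i) ∈
      nilradical (Localization.AtPrime r) →
      algebraMap S (Localization.AtPrime q) (![x', y', w] i) ∈
        nilradical (Localization.AtPrime q) := by
    intro i hi
    rw [mem_nilradical] at hi ⊢
    rw [← hc i, ← hF]
    exact hi.map F
  have hfin' : ∀ (z : Localization.AtPrime q) (z' : S) (s : q.primeCompl),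
      z * algebraMap S _ s.1 = algebraMap S _ z' →
      algebraMap S (Localization.AtPrime q) z' ∈ nilradical (Localization.AtPrime q) →
      z ∈ nilradical (Localization.AtPrime q) := by
    intro z z' s hz hz'
    rw [← hz] at hz'
    have hu : IsUnit (algebraMap S (Localization.AtPrime q) s.1) :=
      IsLocalization.map_units (M := q.primeCompl) _ s
    obtain ⟨v, hv⟩ := hu.exists_right_inv
    have : z = (z * algebraMap S _ s.1) * v := by rw [mul_assoc, hv, mul_one]
    rw [this]
    exact Ideal.mul_mem_right _ _ hz'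
  rcases hprime.mem_or_mem h1 with h2 | h2
  · exact Or.inl (hfin' x x' s hx (hfin 0 h2))
  · exact Or.inr (hfin' y y' t hy (hfin 1 h2))

/-- If the nilradical of `S_q` is prime, then `q` contains exactly one minimal prime. -/
theorem eq_of_minimalPrimes {S : Type*} [CommRing S] (q : Ideal S) [q.IsPrime]
    (h : (nilradical (Localization.AtPrime q)).IsPrime) {P P' : Ideal S}
    (hP : P ∈ minimalPrimes S) (hP' : P' ∈ minimalPrimes S) (h1 : P ≤ q) (h2 : P' ≤ q) :
    P = P' := by
  let N : Ideal S := (nilradical (Localization.AtPrime q)).comap (algebraMap S _)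
  have hN : N.IsPrime := inferInstance
  have key : ∀ Q : Ideal S, Q ∈ minimalPrimes S → Q ≤ q → Q = N := by
    intro Q hQ hQq
    have hQp : Q.IsPrime := hQ.1.1
    have hle : N ≤ Q := by
      intro x hx
      have hx' : algebraMap S (Localization.AtPrime q) x ∈ nilradical _ := hx
      obtain ⟨n, hn⟩ := mem_nilradical.mp hx'
      rw [← map_pow, IsLocalization.map_eq_zero_iff q.primeCompl] at hn
      obtain ⟨w, hw⟩ := hn
      have h3 : w.1 * x ^ n ∈ Q := by rw [hw]; exact Q.zero_mem
      rcases hQp.mem_or_mem h3 with h4 | h4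
      · exact absurd (hQq h4) w.2
      · exact hQp.mem_of_pow_mem n h4
    exact le_antisymm (hQ.2 ⟨hN, bot_le⟩ hle) hle
  rw [key P hP h1, key P' hP' h2]

/-- If the punctured spectrum of a Noetherian local ring is preconnected, the closed point is not
minimal, and each local ring of it is irreducible, then there is a unique minimal prime. -/
theorem hasUniqueMinimalPrime_of_punctured {S : Type u} [CommRing S] [IsLocalRing S]
    [IsNoetherianRing S]
    (hconn : IsPreconnected ({IsLocalRing.closedPoint S}ᶜ : Set (PrimeSpectrum S)))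
    (hmin : maximalIdeal S ∉ minimalPrimes S)
    (h : ∀ q : PrimeSpectrum S, q ≠ IsLocalRing.closedPoint S →
      (nilradical (Localization.AtPrime q.asIdeal)).IsPrime) :
    CAlgX.HasUniqueMinimalPrime S := by
  obtain ⟨P, hP, -⟩ := Ideal.exists_minimalPrimes_le (bot_le : (⊥ : Ideal S) ≤ maximalIdeal S)
  refine ⟨P, hP, fun P' hP' => ?_⟩
  by_contra hne
  have hPp : P.IsPrime := hP.1.1
  have hPp' : P'.IsPrime := hP'.1.1
  have hfin : (minimalPrimes S).Finite := minimalPrimes.finite_of_isNoetherianRing S
  let t : Set (PrimeSpectrum S) := PrimeSpectrum.zeroLocus (P : Set S)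
  let t' : Set (PrimeSpectrum S) := ⋃ Q ∈ minimalPrimes S \ {P}, PrimeSpectrum.zeroLocus (Q : Set S)
  have ht : IsClosed t := PrimeSpectrum.isClosed_zeroLocus _
  have ht' : IsClosed t' := (hfin.subset Set.sdiff_subset).isClosed_biUnion fun Q _ =>
    PrimeSpectrum.isClosed_zeroLocus _
  have hcov : ({IsLocalRing.closedPoint S}ᶜ : Set (PrimeSpectrum S)) ⊆ t ∪ t' := by
    intro q _
    obtain ⟨Q, hQ, hQq⟩ := Ideal.exists_minimalPrimes_le (bot_le : (⊥ : Ideal S) ≤ q.asIdeal)
    by_cases hQP : Q = P
    · left
      change P ≤ q.asIdeal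
      rw [← hQP]
      exact hQq
    · right
      exact Set.mem_biUnion (show Q ∈ minimalPrimes S \ {P} from ⟨hQ, hQP⟩) hQq
  have hmem : ∀ Q (hQ : Q ∈ minimalPrimes S),
      (⟨Q, hQ.1.1⟩ : PrimeSpectrum S) ∈ ({IsLocalRing.closedPoint S}ᶜ : Set (PrimeSpectrum S)) := by
    intro Q hQ heq
    apply hmin
    have := congrArg PrimeSpectrum.asIdeal heq
    change Q = maximalIdeal S at this
    rw [← this]
    exact hQ
  obtain ⟨q, hq, hqt, hqt'⟩ := isPreconnected_closed_iff.mp hconn t t' ht ht' hcov
    ⟨⟨P, hPp⟩, hmem P hP, le_refl P⟩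
    ⟨⟨P', hPp'⟩, hmem P' hP', Set.mem_biUnion (show P' ∈ minimalPrimes S \ {P} from ⟨hP', hne⟩)
      (le_refl P')⟩
  obtain ⟨Q, hQ, hqQ⟩ := Set.mem_iUnion₂.mp hqt'
  exact hQ.2 (eq_of_minimalPrimes q.asIdeal (h q hq) hQ.1 hP hqQ hqt)

end K592.UniLoc
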