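import Groth.Agent.Props.K592.UniLoc
import Groth.Agent.S2135
import Groth.Agent.S0540
import Groth.Agent.S0537
import Groth.Agent.Flat2G.EtUnibranch
import Groth.Agent.Ega1.GenPts
import Groth.Agent.CycB.LocQuot

/-!
# Geometrically unibranch Noetherian schemes and punctured spectra of strict henselizations
-/

set_option autoImplicit false
universe u
open CategoryTheory AlgebraicGeometry TopologicalSpace IsLocalRing

namespace K592.UniPunct

open Groth.Agent

/-- The local rings of the local ring at `x` are the local rings at the generizations of `x`. -/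
theorem exists_point {X : Scheme.{u}} (x : X) (p : Ideal (X.presheaf.stalk x)) [hp : p.IsPrime] :
    ∃ y : X, y ⤳ x ∧ (y = x → p = maximalIdeal _) ∧
      Nonempty (Localization.AtPrime p ≃+* X.presheaf.stalk y) := by
  let y : X := X.fromSpecStalk x ⟨p, hp⟩
  have h : y ⤳ x := by
    have : y ∈ Set.range (X.fromSpecStalk x) := ⟨_, rfl⟩
    rwa [Scheme.range_fromSpecStalk] at this
  have hinj : Function.Injective (X.fromSpecStalk x) := (X.fromSpecStalk x).isEmbedding.injective
  refine ⟨y, h, ?_, ?_⟩
  · intro hyx
    have h1 : X.fromSpecStalk x ⟨p, hp⟩ = X.fromSpecStalk x (closedPoint _) := by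
      rw [Scheme.fromSpecStalk_closedPoint]
      exact hyx
    exact congrArg PrimeSpectrum.asIdeal (hinj h1)
  · let := (X.presheaf.stalkSpecializes h).hom.toAlgebra
    have h1 := CycB.LocQuot.isLocalization_stalkSpecializes h
    have h2 : Spec.map (X.presheaf.stalkSpecializes h) (closedPoint _) =
        (⟨p, hp⟩ : PrimeSpectrum (X.presheaf.stalk x)) := by
      apply hinj
      have h6 : X.fromSpecStalk x (Spec.map (X.presheaf.stalkSpecializes h)
          (closedPoint (X.presheaf.stalk y) : Spec (X.presheaf.stalk y))) =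
          X.fromSpecStalk y (closedPoint (X.presheaf.stalk y) : Spec (X.presheaf.stalk y)) := by
        rw [← Scheme.SpecMap_stalkSpecializes_fromSpecStalk h]
        rfl
      exact h6.trans Scheme.fromSpecStalk_closedPoint
    have h3 : RingHom.ker (Cyc.specMap x y h) = p := by
      have h4 := congrArg PrimeSpectrum.asIdeal h2
      change (maximalIdeal _).comap (X.presheaf.stalkSpecializes h).hom = p at h4
      rw [← h4]
      ext a
      rw [RingHom.mem_ker, Ideal.mem_comap, ← IsLocalRing.residue_eq_zero_iff]
      rfl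
    have h5 : IsLocalization.AtPrime (X.presheaf.stalk y) p := by
      have : ∀ (I J : Ideal (X.presheaf.stalk x)) (_ : I = J) [I.IsPrime] [J.IsPrime],
          IsLocalization.AtPrime (X.presheaf.stalk y) I →
          IsLocalization.AtPrime (X.presheaf.stalk y) J := by
        rintro I J rfl _ _ h; exact h
      exact this _ _ h3 h1
    exact ⟨(IsLocalization.algEquiv p.primeCompl (Localization.AtPrime p)
      (X.presheaf.stalk y)).toRingEquiv⟩

/-- `x` is generic iff its local ring has a unique prime. -/
theorem generic_iff {X : Scheme.{u}} (x : X) : closure ({x} : Set X) ∈ irreducibleComponents X ↔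
    maximalIdeal (X.presheaf.stalk x) ∈ minimalPrimes (X.presheaf.stalk x) := by
  rw [Ega1.GenPts.closure_mem_irreducibleComponents_iff']
  have hinj : Function.Injective (X.fromSpecStalk x) := (X.fromSpecStalk x).isEmbedding.injective
  constructor
  · intro h
    refine ⟨⟨inferInstance, bot_le⟩, fun p hp _ => ?_⟩
    have hp' := hp.1
    have h1 : X.fromSpecStalk x ⟨p, hp.1⟩ ⤳ x := by
      have : X.fromSpecStalk x ⟨p, hp.1⟩ ∈ Set.range (X.fromSpecStalk x) := ⟨_, rfl⟩
      rwa [Scheme.range_fromSpecStalk] at this
    have h2 : X.fromSpecStalk x ⟨p, hp.1⟩ = X.fromSpecStalk x (closedPoint _) := by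
      rw [Scheme.fromSpecStalk_closedPoint]
      exact h _ h1
    exact (congrArg PrimeSpectrum.asIdeal (hinj h2)).ge
  · intro h y hy
    have : y ∈ Set.range (X.fromSpecStalk x) := by rwa [Scheme.range_fromSpecStalk]
    obtain ⟨P, rfl⟩ := this
    have h1 : P = closedPoint _ := by
      apply PrimeSpectrum.ext
      exact le_antisymm (le_maximalIdeal P.2.ne_top) (h.2 ⟨P.2, bot_le⟩ (le_maximalIdeal P.2.ne_top))
    rw [h1, Scheme.fromSpecStalk_closedPoint]

/-- For a flat local homomorphism, if the closed point is minimal upstairs then so it is below. -/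
theorem minimal_of_flat {A S : Type*} [CommRing A] [IsLocalRing A] [CommRing S] [IsLocalRing S]
    [Algebra A S] [IsLocalHom (algebraMap A S)] [Module.Flat A S]
    (h : maximalIdeal S ∈ minimalPrimes S) : maximalIdeal A ∈ minimalPrimes A := by
  refine ⟨⟨inferInstance, bot_le⟩, fun p hp _ => ?_⟩
  have hp' := hp.1
  have : (maximalIdeal S).LiesOver (maximalIdeal A) :=
    ⟨(IsLocalRing.maximalIdeal_comap (algebraMap A S)).symm⟩
  obtain ⟨P, hPle, hP, hPp⟩ := Ideal.exists_ideal_le_liesOver_of_le (p := p) (q := maximalIdeal A)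
    (maximalIdeal S) (le_maximalIdeal hp.1.ne_top)
  have h1 : P = maximalIdeal S := le_antisymm hPle (h.2 ⟨hP, bot_le⟩ hPle)
  have h2 := hPp.over
  rw [h2, h1]
  exact (IsLocalRing.maximalIdeal_comap (algebraMap A S)).ge

/-- The punctured spectrum of an irreducible local ring of positive dimension is connected. -/
theorem connected_of_unique {S : Type u} [CommRing S] [IsLocalRing S]
    (h : CAlgX.HasUniqueMinimalPrime S) (hmin : maximalIdeal S ∉ minimalPrimes S) :
    ConnectedSpace ↥({closedPoint S}ᶜ : Set (PrimeSpectrum S)) := by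
  have hirr : IrreducibleSpace (PrimeSpectrum S) := by
    rw [PrimeSpectrum.irreducibleSpace_iff_isPrime_nilradical]
    exact (CalgC.GeomUnibranchIff.hasUniqueMinimalPrime_iff S).mp h
  obtain ⟨P, hP, -⟩ := h
  have hne : (({closedPoint S}ᶜ : Set (PrimeSpectrum S))).Nonempty := by
    refine ⟨⟨P, hP.1.1⟩, fun h => hmin ?_⟩
    have := congrArg PrimeSpectrum.asIdeal (Set.mem_singleton_iff.mp h)
    change P = maximalIdeal S at this
    rw [← this]
    exact hP
  have hopen : IsOpen ({closedPoint S}ᶜ : Set (PrimeSpectrum S)) :=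
    (PrimeSpectrum.isClosed_singleton_iff_isMaximal _).mpr
      (maximalIdeal.isMaximal S) |>.isOpen_compl
  have h1 : IsPreirreducible ({closedPoint S}ᶜ : Set (PrimeSpectrum S)) :=
    (PreirreducibleSpace.isPreirreducible_univ (X := PrimeSpectrum S)).open_subset hopen
      (Set.subset_univ _)
  exact isConnected_iff_connectedSpace.mp ⟨hne, h1.isPreconnected⟩

theorem main (X : Scheme.{u}) [IsNoetherian X] :
    (∀ x : X, CAlg2.IsGeomUnibranch (X.presheaf.stalk x)) ↔
      ∀ (x : X), closure ({x} : Set X) ∉ irreducibleComponents X →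
        ∀ (Ash : Type u) [CommRing Ash] [IsLocalRing Ash] [Algebra (X.presheaf.stalk x) Ash]
          [IsLocalHom (algebraMap (X.presheaf.stalk x) Ash)]
          [Hensel.IsStrictHenselization (X.presheaf.stalk x) Ash],
          ConnectedSpace ↥({IsLocalRing.closedPoint Ash}ᶜ : Set (PrimeSpectrum Ash)) := by
  constructor
  · intro h x hx Ash _ _ _ _ _
    have hfac : CalgC.LazardEtale.FactorsEtale (X.presheaf.stalk x) Ash :=
      Groth.Agent.Hensel.HenselPerm.lazardEtale_of_isStrictHenselization (X.presheaf.stalk x) Ash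
    have hflat := hfac.flat
    have h1 : CAlgX.HasUniqueMinimalPrime Ash :=
      (S2135.result (A := X.presheaf.stalk x)).mp (h x)
    refine connected_of_unique h1 fun h2 => hx ?_
    rw [generic_iff]
    exact minimal_of_flat (S := Ash) h2
  · intro h x
    induction hn : ringKrullDim (X.presheaf.stalk x) using WellFoundedLT.induction
      generalizing x with
    | ind n ih =>
    subst hn
    obtain ⟨Ash, _, _, _, _, hsh⟩ : ∃ (Ash : Type u) (_ : CommRing Ash) (_ : IsLocalRing Ash)
        (_ : Algebra (X.presheaf.stalk x) Ash) (_ : IsLocalHom (algebraMap (X.presheaf.stalk x) Ash)),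
        Hensel.IsStrictHenselization (X.presheaf.stalk x) Ash :=
      S0537.result (X.presheaf.stalk x)
    have hfac : CalgC.LazardEtale.FactorsEtale (X.presheaf.stalk x) Ash :=
      Groth.Agent.Hensel.HenselPerm.lazardEtale_of_isStrictHenselization (X.presheaf.stalk x) Ash
    have hflat := hfac.flat
    rw [S2135.result (A := X.presheaf.stalk x) (Ash := Ash)]
    have hnoeth : IsNoetherianRing Ash := (S0540.result (X.presheaf.stalk x) Ash).mp inferInstance
    have hmap : (maximalIdeal (X.presheaf.stalk x)).map (algebraMap _ Ash) = maximalIdeal Ash :=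
      Groth.Agent.Hensel.Exist.map_maximalIdeal_of_isStrictHenselization (R := X.presheaf.stalk x)
        (S := Ash)
    by_cases hmin : maximalIdeal Ash ∈ minimalPrimes Ash
    · refine ⟨maximalIdeal Ash, hmin, fun P hP => ?_⟩
      have hPp := hP.1.1
      exact le_antisymm (le_maximalIdeal hP.1.1.ne_top)
        (hmin.2 ⟨hP.1.1, bot_le⟩ (le_maximalIdeal hP.1.1.ne_top))
    have hx : closure ({x} : Set X) ∉ irreducibleComponents X := by
      rw [generic_iff]
      intro h1
      apply hmin
      refine ⟨⟨inferInstance, bot_le⟩, fun P hP _ => ?_⟩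
      have hPp := hP.1
      have h2 : maximalIdeal (X.presheaf.stalk x) ≤ P.comap (algebraMap _ Ash) :=
        h1.2 ⟨inferInstance, bot_le⟩ (le_maximalIdeal Ideal.IsPrime.ne_top')
      rw [← hmap]
      exact Ideal.map_le_iff_le_comap.mpr h2
    have hconn := h x hx Ash
    refine UniLoc.hasUniqueMinimalPrime_of_punctured
      (isConnected_iff_connectedSpace.mpr hconn).isPreconnected hmin fun q hq => ?_
    refine UniLoc.isPrime_nilradical_atPrime hfac q.asIdeal ?_
    obtain ⟨y, hyx, hne, ⟨e⟩⟩ := exists_point x (q.asIdeal.comap (algebraMap _ Ash))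
    refine Flat2G.EtUnibranch.isGeomUnibranch_of_ringEquiv e.symm (ih _ ?_ y rfl)
    have hpne : q.asIdeal.comap (algebraMap (X.presheaf.stalk x) Ash) ≠ maximalIdeal _ := by
      intro h3
      apply hq
      apply PrimeSpectrum.ext
      refine le_antisymm (le_maximalIdeal q.2.ne_top) ?_
      change maximalIdeal Ash ≤ q.asIdeal
      rw [← hmap]
      exact Ideal.map_le_iff_le_comap.mpr h3.ge
    have hlt : q.asIdeal.comap (algebraMap (X.presheaf.stalk x) Ash) < maximalIdeal _ :=
      lt_of_le_of_ne (le_maximalIdeal Ideal.IsPrime.ne_top') hpne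
    rw [← ringKrullDim_eq_of_ringEquiv e,
      IsLocalization.AtPrime.ringKrullDim_eq_height
        (q.asIdeal.comap (algebraMap (X.presheaf.stalk x) Ash)),
      ← IsLocalRing.maximalIdeal_height_eq_ringKrullDim]
    exact_mod_cast Ideal.height_strict_mono_of_isPrime hlt

end K592.UniPunct
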